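import Groth.Agent.L27.ExtZero.Exact
import Groth.Agent.L27.LimCoh.BC
import Mathlib.CategoryTheory.Adjunction.Triple
import Mathlib.CategoryTheory.Adjunction.Unique

/-! # Inverse image along an etale morphism is restriction -/

universe u

open CategoryTheory CategoryTheory.Limits AlgebraicGeometry Opposite

set_option backward.isDefEq.respectTransparency.types false
set_option linter.style.haveILetI false
set_option linter.unusedSectionVars false
set_option linter.unusedVariables false

namespace Groth.L27.ExtZero

variable {U X : Scheme.{u}} (j : U ⟶ X) [hj : Etale j]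

/-- The projection from the composite with a base change. -/
noncomputable def epsE (V : X.Etale) : (EtShriek.compEtale j).obj ((EtCoh.bc j).obj V) ⟶ V :=
  MorphismProperty.Over.homMk (LimCoh.fstB j V) (LimCoh.fstB_w j V)

/-- The graph into the base change of a composite. -/
noncomputable def etaE (T : U.Etale) : T ⟶ (EtCoh.bc j).obj ((EtShriek.compEtale j).obj T) :=
  LimCoh.lift j (V := (EtShriek.compEtale j).obj T) (𝟙 T.left) (Category.id_comp _)

theorem epsE_nat {V V' : X.Etale} (m : V' ⟶ V) :
    (EtShriek.compEtale j).map ((EtCoh.bc j).map m) ≫ epsE j V = epsE j V' ≫ m :=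
  MorphismProperty.Over.Hom.ext (LimCoh.fstB_nat j m)

theorem etaE_nat {T T' : U.Etale} (m : T' ⟶ T) :
    m ≫ etaE j T = etaE j T' ≫ (EtCoh.bc j).map ((EtShriek.compEtale j).map m) := by
  refine LimCoh.bc_hom_ext j ?_
  refine (Category.assoc _ _ _).trans ((congrArg (_ ≫ ·) (LimCoh.lift_fstB j _ _)).trans ((Category.comp_id _).trans ?_))
  refine Eq.trans ?_ (Category.assoc _ _ _).symm
  refine Eq.trans ?_ (congrArg (_ ≫ ·) (LimCoh.fstB_nat j ((EtShriek.compEtale j).map m))).symm
  exact ((congrArg (· ≫ m.left) (LimCoh.lift_fstB j _ _)).trans (Category.id_comp _)).symm.trans (Category.assoc _ _ _)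

theorem etaE_epsE (T : U.Etale) :
    (EtShriek.compEtale j).map (etaE j T) ≫ epsE j ((EtShriek.compEtale j).obj T) = 𝟙 _ :=
  MorphismProperty.Over.Hom.ext (LimCoh.lift_fstB j _ _)

theorem etaE_map_epsE (V : X.Etale) : etaE j ((EtCoh.bc j).obj V) ≫ (EtCoh.bc j).map (epsE j V) = 𝟙 _ := by
  refine LimCoh.bc_hom_ext j ?_
  refine (Category.assoc _ _ _).trans ((congrArg (_ ≫ ·) (LimCoh.fstB_nat j (epsE j V))).trans ?_)
  exact (Category.assoc _ _ _).symm.trans (congrArg (· ≫ LimCoh.fstB j V) (LimCoh.lift_fstB j _ _))

theorem isIso_etaE [Mono j] (T : U.Etale) : IsIso (etaE j T) := by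
  haveI : Mono (LimCoh.fstB j ((EtShriek.compEtale j).obj T)) := pullback.fst_of_mono
  haveI : IsSplitEpi (LimCoh.fstB j ((EtShriek.compEtale j).obj T)) :=
    IsSplitEpi.mk' ⟨(etaE j T).left, LimCoh.lift_fstB j _ _⟩
  haveI : IsIso (LimCoh.fstB j ((EtShriek.compEtale j).obj T)) := isIso_of_mono_of_isSplitEpi _
  let e : (EtCoh.bc j).obj ((EtShriek.compEtale j).obj T) ⟶ T :=
    MorphismProperty.Over.homMk (LimCoh.fstB j ((EtShriek.compEtale j).obj T)) ((cancel_mono j).1
      ((Category.assoc _ _ _).trans (LimCoh.fstB_w j ((EtShriek.compEtale j).obj T))))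
  refine ⟨e, MorphismProperty.Over.Hom.ext (LimCoh.lift_fstB j _ _), MorphismProperty.Over.Hom.ext ?_⟩
  exact (cancel_mono (LimCoh.fstB j ((EtShriek.compEtale j).obj T))).1 ((Category.assoc _ _ _).trans
    ((congrArg (_ ≫ ·) (LimCoh.lift_fstB j _ _)).trans ((Category.comp_id _).trans (Category.id_comp _).symm)))

variable [EtShriek.JCont j]

/-- Restriction is left adjoint to direct image. -/
noncomputable def restrAdj : EtShriek.restrAlong j ⊣ EtCoh.push j where
  unit :=
    { app := fun F => ⟨{ app := fun V => F.obj.map (epsE j V.unop).op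
                         naturality := fun V V' m => (F.obj.map_comp _ _).symm.trans
                           ((congrArg (fun l => F.obj.map (Quiver.Hom.op l)) (epsE_nat j m.unop).symm).trans
                             (F.obj.map_comp _ _)) }⟩
      naturality := fun F G φ => ObjectProperty.hom_ext _ (NatTrans.ext (funext fun V =>
        (φ.hom.naturality (epsE j V.unop).op).symm)) }
  counit :=
    { app := fun G => ⟨{ app := fun T => G.obj.map (etaE j T.unop).op
                         naturality := fun T T' m => (G.obj.map_comp _ _).symm.trans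
                           ((congrArg (fun l => G.obj.map (Quiver.Hom.op l)) (etaE_nat j m.unop)).symm.trans
                             (G.obj.map_comp _ _)) }⟩
      naturality := fun F G φ => ObjectProperty.hom_ext _ (NatTrans.ext (funext fun T =>
        (φ.hom.naturality (etaE j T.unop).op).symm)) }
  left_triangle_components F := ObjectProperty.hom_ext _ (NatTrans.ext (funext fun T =>
    (F.obj.map_comp _ _).symm.trans
      ((congrArg (fun l => F.obj.map (Quiver.Hom.op l)) (etaE_epsE j T.unop)).trans (F.obj.map_id _))))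
  right_triangle_components G := ObjectProperty.hom_ext _ (NatTrans.ext (funext fun V =>
    (G.obj.map_comp _ _).symm.trans
      ((congrArg (fun l => G.obj.map (Quiver.Hom.op l)) (etaE_map_epsE j V.unop)).trans (G.obj.map_id _))))

theorem isIso_restrAdj_counit [Mono j] : IsIso (restrAdj j).counit := by
  haveI : ∀ G : EtCoh.Ab U, IsIso ((restrAdj j).counit.app G) := fun G => by
    haveI : IsIso ((sheafToPresheaf _ _).map ((restrAdj j).counit.app G)) := by
      haveI : ∀ T : U.Etaleᵒᵖ, IsIso (((sheafToPresheaf _ _).map ((restrAdj j).counit.app G)).app T) := fun T => by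
        haveI := isIso_etaE j T.unop
        exact inferInstanceAs (IsIso (G.obj.map (etaE j T.unop).op))
      exact NatIso.isIso_of_isIso_app _
    exact isIso_of_reflects_iso _ (sheafToPresheaf _ _)
  exact NatIso.isIso_of_isIso_app _

/-- Inverse image is restriction. -/
noncomputable def pullRestr : EtCoh.pull j ≅ EtShriek.restrAlong j :=
  Adjunction.leftAdjointUniq (EtCoh.pullPushAdj j) (restrAdj j)

theorem unit_pullRestr (F : EtCoh.Ab X) :
    (EtCoh.pullPushAdj j).unit.app F ≫ (EtCoh.push j).map ((pullRestr j).hom.app F) = (restrAdj j).unit.app F :=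
  Adjunction.unit_leftAdjointUniq_hom_app _ _ F

theorem pullRestr_unit_app (F : EtCoh.Ab X) (V : X.Etale) (s : F.obj.obj (op V)) :
    ((pullRestr j).hom.app F).hom.app (op ((EtCoh.bc j).obj V))
        (((EtCoh.pullPushAdj j).unit.app F).hom.app (op V) s) = F.obj.map (epsE j V).op s :=
  congrArg (fun m => m.hom.app (op V) s) (unit_pullRestr j F)

theorem isIso_counit_of_mono [Mono j] : IsIso (EtCoh.pullPushAdj j).counit ∧ IsIso (EtShriek.extZeroAdj j).unit := by
  haveI := isIso_restrAdj_counit j
  haveI h : (EtCoh.push j).Full ∧ (EtCoh.push j).Faithful :=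
    ⟨(restrAdj j).fullyFaithfulROfIsIsoCounit.full, (restrAdj j).fullyFaithfulROfIsIsoCounit.faithful⟩
  haveI := h.1
  haveI := h.2
  exact ⟨inferInstance, (Adjunction.Triple.mk (EtShriek.extZeroAdj j) (restrAdj j)).isIso_unit_iff_isIso_counit.2
    inferInstance⟩

theorem injective_pull (I : EtCoh.Ab X) [Injective I] : Injective ((EtCoh.pull j).obj I) :=
  haveI := injective_restrAlong j I
  Injective.of_iso ((pullRestr j).app I).symm inferInstance

end Groth.L27.ExtZero
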