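import Groth.Agent.L27.ExtZero.ShriekComp
import Mathlib.CategoryTheory.Preadditive.LeftExact
import Mathlib.Algebra.Homology.ShortComplex.ExactFunctor
import Mathlib.Algebra.Homology.ShortComplex.Ab
import Mathlib.CategoryTheory.Sites.Limits

/-! # Left exactness of direct images with proper support -/

universe u

open CategoryTheory CategoryTheory.Limits AlgebraicGeometry Opposite

set_option backward.isDefEq.respectTransparency.types false
set_option linter.style.haveILetI false
set_option linter.unusedSectionVars false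
set_option linter.unusedVariables false

namespace Groth.L27.Supp

variable {X Y : Scheme.{u}} (f : X ⟶ Y) [LocallyOfFiniteType f]

theorem supp_injective {A B : EtCoh.Ab X} (α : A ⟶ B) [Mono α] {U : X.Etale} (s : EtCoh.sect A U) :
    EtShriek.sectSupp B U (α.hom.app (op U) s) = EtShriek.sectSupp A U s := by
  refine Set.Subset.antisymm (EtShriek.sectSupp_map_subset α U s) fun x hx W g hw h0 => hx W g hw ?_
  have hinj : Function.Injective (α.hom.app (op W)) := (AddCommGrpCat.mono_iff_injective _).1
    ((sheafToPresheaf X.smallEtaleTopology AddCommGrpCat.{u + 1} ⋙ (evaluation _ _).obj (op W)).map_mono α)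
  refine hinj ?_
  rw [map_zero, ← h0]
  exact NatTrans.naturality_apply α.hom g.op s

theorem exists_preimage {S : ShortComplex (EtCoh.Ab X)} (hS : S.ShortExact) (U : X.Etale) (t : EtCoh.sect S.X₂ U)
    (ht : S.g.hom.app (op U) t = 0) : ∃ s : EtCoh.sect S.X₁ U, S.f.hom.app (op U) s = t := by
  let G : EtCoh.Ab X ⥤ AddCommGrpCat.{u + 1} :=
    sheafToPresheaf X.smallEtaleTopology AddCommGrpCat.{u + 1} ⋙ (evaluation _ _).obj (op U)
  haveI := hS.mono_f
  have h : (S.map G).Exact := hS.exact.map_of_mono_of_preservesKernel G inferInstance inferInstance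
  exact (ShortComplex.ab_exact_iff _).1 h t ht

theorem lowerShriekPre_exact {S : ShortComplex (EtCoh.Ab X)} (hS : S.ShortExact) (V : Y.Etale)
    (t : EtShriek.shriekSubgroup f S.X₂ V) (ht : S.g.hom.app (op ((EtCoh.bc f).obj V)) t.1 = 0) :
    ∃ s : EtShriek.shriekSubgroup f S.X₁ V, S.f.hom.app (op ((EtCoh.bc f).obj V)) s.1 = t.1 := by
  obtain ⟨s, hs⟩ := exists_preimage hS _ t.1 ht
  haveI := hS.mono_f
  refine ⟨⟨s, (mem_shriekSubgroup_iff f S.X₁ s).2 ?_⟩, hs⟩
  have h2 := (mem_shriekSubgroup_iff f S.X₂ t.1).1 t.2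
  show ClSub.IsProperOver _ _
  rw [← supp_injective S.f s, hs]
  exact h2

theorem mono_lowerShriek_map {A B : EtCoh.Ab X} (α : A ⟶ B) [Mono α] : Mono ((EtShriek.lowerShriek f).map α) := by
  haveI : Mono ((EtShriek.lowerShriekPreFunctor f).map α) := by
    haveI : ∀ V, Mono (((EtShriek.lowerShriekPreFunctor f).map α).app V) := fun V =>
      (AddCommGrpCat.mono_iff_injective _).2 fun a b e => Subtype.ext
        ((AddCommGrpCat.mono_iff_injective _).1 ((sheafToPresheaf X.smallEtaleTopology AddCommGrpCat.{u + 1} ⋙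
          (evaluation _ _).obj (op ((EtCoh.bc f).obj V.unop))).map_mono α) (congrArg Subtype.val e))
    exact NatTrans.mono_of_mono_app _
  exact (presheafToSheaf Y.smallEtaleTopology AddCommGrpCat.{u + 1}).map_mono _

theorem exact_lowerShriek_map {S : ShortComplex (EtCoh.Ab X)} (hS : S.ShortExact)
    [(EtShriek.lowerShriek f).PreservesZeroMorphisms] : (S.map (EtShriek.lowerShriek f)).Exact := by
  refine (EtSite.exact_iff_stalks _).2 fun Ω _ _ η => ?_
  refine (ShortComplex.ab_exact_iff _).2 fun e he => ?_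
  let Φ := (Scheme.pointSmallEtale η).presheafFiber (A := AddCommGrpCat.{u + 1})
  have hη : ∀ A, Function.Bijective (Φ.map (toSheafify Y.smallEtaleTopology (EtShriek.lowerShriekPre f A))) := fun A =>
    (ConcreteCategory.isIso_iff_bijective _).1
      ((Scheme.pointSmallEtale η).W_isInvertedBy_presheafFiber _ (GrothendieckTopology.W_toSheafify _ _))
  have hnat : ∀ {A B : EtCoh.Ab X} (α : A ⟶ B) (p),
      (EtCoh.stalk η).map ((EtShriek.lowerShriek f).map α)
          (Φ.map (toSheafify Y.smallEtaleTopology (EtShriek.lowerShriekPre f A)) p) =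
        Φ.map (toSheafify Y.smallEtaleTopology (EtShriek.lowerShriekPre f B))
          (Φ.map ((EtShriek.lowerShriekPreFunctor f).map α) p) := fun {A B} α p =>
    ConcreteCategory.congr_hom ((Φ.map_comp _ _).symm.trans ((congrArg Φ.map
      (toSheafify_naturality Y.smallEtaleTopology ((EtShriek.lowerShriekPreFunctor f).map α)).symm).trans
        (Φ.map_comp _ _))) p
  obtain ⟨p, rfl⟩ := (hη S.X₂).2 e
  have hp : Φ.map ((EtShriek.lowerShriekPreFunctor f).map S.g) p = 0 :=
    (hη S.X₃).1 ((hnat S.g p).symm.trans (he.trans (map_zero _).symm))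
  obtain ⟨V, y, t, rfl⟩ := (Scheme.pointSmallEtale η).toPresheafFiber_jointly_surjective p
  have hp' := (GrothendieckTopology.Point.toPresheafFiber_naturality_apply
    (Φ := Scheme.pointSmallEtale η) ((EtShriek.lowerShriekPreFunctor f).map S.g) V y t).symm.trans hp
  obtain ⟨W, a, w, hw, hz⟩ := ((Scheme.pointSmallEtale η).toPresheafFiber_eq_iff' _ _ _ 0).1
    (hp'.trans (map_zero _).symm)
  rw [map_zero, ← NatTrans.naturality_apply] at hz
  obtain ⟨s, hs⟩ := lowerShriekPre_exact f hS W ((EtShriek.lowerShriekPre f S.X₂).map a.op t) (congrArg Subtype.val hz)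
  refine ⟨Φ.map (toSheafify Y.smallEtaleTopology (EtShriek.lowerShriekPre f S.X₁))
    ((Scheme.pointSmallEtale η).toPresheafFiber W w (EtShriek.lowerShriekPre f S.X₁) s), ?_⟩
  refine (hnat S.f _).trans (congrArg _ ?_)
  refine (GrothendieckTopology.Point.toPresheafFiber_naturality_apply
    (Φ := Scheme.pointSmallEtale η) ((EtShriek.lowerShriekPreFunctor f).map S.f) W w s).trans ?_
  rw [← hw, ← GrothendieckTopology.Point.toPresheafFiber_w_apply]
  exact congrArg _ (Subtype.ext hs)

theorem additive_lowerShriek : (EtShriek.lowerShriek f).Additive := by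
  haveI : (EtShriek.lowerShriekPreFunctor f).Additive :=
    ⟨fun {A B α β} => NatTrans.ext (funext fun V => AddCommGrpCat.hom_ext (AddMonoidHom.ext fun t => rfl))⟩
  infer_instance

theorem preservesFiniteLimits_lowerShriek : PreservesFiniteLimits (EtShriek.lowerShriek f) := by
  haveI := additive_lowerShriek f
  refine ((Functor.preservesFiniteLimits_tfae (EtShriek.lowerShriek f)).out 0 3).1 fun S hS => ?_
  haveI := hS.mono_f
  exact ⟨exact_lowerShriek_map f hS, mono_lowerShriek_map f S.f⟩

end Groth.L27.Supp
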