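import Groth.Agent.L27.ExtZero.Supp
import Mathlib.AlgebraicGeometry.Morphisms.FlatDescent
import Mathlib.AlgebraicGeometry.Morphisms.Proper

/-! # Proper supports -/

universe u

open CategoryTheory CategoryTheory.Limits AlgebraicGeometry Opposite

set_option backward.isDefEq.respectTransparency.types false
set_option linter.style.haveILetI false
set_option linter.unusedSectionVars false
set_option linter.unusedVariables false

namespace Groth.L27.Supp

section Schemes

variable {Z U S : Scheme.{u}}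

theorem isProperOver_range_of_closedImmersion (c : Z ⟶ U) [IsClosedImmersion c] (g : U ⟶ S) [IsProper (c ≫ g)] :
    ClSub.IsProperOver g (Set.range c) := by
  refine ⟨c.isClosedEmbedding.isClosed_range, ?_⟩
  let Zc : TopologicalSpace.Closeds U := ⟨Set.range c, c.isClosedEmbedding.isClosed_range⟩
  let ι := (Scheme.IdealSheafData.vanishingIdeal Zc).subschemeι
  have hle : c.ker ≤ ι.ker := by
    rw [Scheme.IdealSheafData.ker_subschemeι, ← Scheme.IdealSheafData.le_support_iff_le_vanishingIdeal]
    exact c.range_subset_ker_support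
  have hl : IsClosedImmersion.lift c ι hle ≫ c = ι := IsClosedImmersion.lift_fac _ _ _
  haveI : IsClosedImmersion (IsClosedImmersion.lift c ι hle ≫ c) := hl.symm ▸ inferInstance
  haveI := IsClosedImmersion.of_comp_isClosedImmersion (IsClosedImmersion.lift c ι hle) c
  show IsProper (ι ≫ g)
  rw [← hl, Category.assoc]
  infer_instance

theorem range_subscheme (C : Set U) (hC : IsClosed C) :
    Set.range (Scheme.IdealSheafData.vanishingIdeal ⟨C, hC⟩).subschemeι = C := by
  rw [Scheme.IdealSheafData.range_subschemeι, Scheme.IdealSheafData.coe_support_vanishingIdeal]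
  rfl

theorem isSeparated_of_universallyClosed_diagonal (h : Z ⟶ S) (hd : UniversallyClosed (pullback.diagonal h)) :
    IsSeparated h :=
  ⟨IsClosedImmersion.of_isPreimmersion _ (by
    rw [← Set.image_univ]
    exact (pullback.diagonal h).isClosedMap _ isClosed_univ)⟩

/-- Separatedness from two closed pieces. -/
theorem isSeparated_of_two {Z₁ Z₂ : Scheme.{u}} (h : Z ⟶ S) (a₁ : Z₁ ⟶ Z) (a₂ : Z₂ ⟶ Z)
    [IsClosedImmersion a₁] [IsClosedImmersion a₂] (hs : ∀ x, x ∈ Set.range a₁ ∨ x ∈ Set.range a₂)
    [IsSeparated (a₁ ≫ h)] [IsSeparated (a₂ ≫ h)] : IsSeparated h := by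
  have key : ∀ {Z' : Scheme.{u}} (a : Z' ⟶ Z) [IsClosedImmersion a] [IsSeparated (a ≫ h)],
      IsClosed (Set.range (a ≫ pullback.diagonal h)) := by
    intro Z' a _ _
    have e : a ≫ pullback.diagonal h = pullback.diagonal (a ≫ h) ≫
        pullback.map (a ≫ h) (a ≫ h) h h a a (𝟙 _) (Category.comp_id _) (Category.comp_id _) := by
      refine pullback.hom_ext ?_ ?_
      · exact ((Category.assoc _ _ _).trans ((congrArg (a ≫ ·) (pullback.diagonal_fst h)).trans (Category.comp_id a))).trans
          ((Category.assoc _ _ _).trans ((congrArg (_ ≫ ·) (pullback.lift_fst _ _ _)).trans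
            ((Category.assoc _ _ _).symm.trans ((congrArg (· ≫ a) (pullback.diagonal_fst (a ≫ h))).trans
              (Category.id_comp a))))).symm
      · exact ((Category.assoc _ _ _).trans ((congrArg (a ≫ ·) (pullback.diagonal_snd h)).trans (Category.comp_id a))).trans
          ((Category.assoc _ _ _).trans ((congrArg (_ ≫ ·) (pullback.lift_snd _ _ _)).trans
            ((Category.assoc _ _ _).symm.trans ((congrArg (· ≫ a) (pullback.diagonal_snd (a ≫ h))).trans
              (Category.id_comp a))))).symm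
    haveI : IsClosedImmersion (pullback.map (a ≫ h) (a ≫ h) h h a a (𝟙 _) (Category.comp_id _) (Category.comp_id _)) :=
      MorphismProperty.pullbackMap (P := @IsClosedImmersion) inferInstance inferInstance rfl rfl
    haveI : IsClosedImmersion (a ≫ pullback.diagonal h) := by
      rw [e]
      exact MorphismProperty.comp_mem _ _ _ inferInstance inferInstance
    exact (a ≫ pullback.diagonal h).isClosedEmbedding.isClosed_range
  refine ⟨IsClosedImmersion.of_isPreimmersion _ ?_⟩
  have hr : Set.range (pullback.diagonal h) =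
      Set.range (a₁ ≫ pullback.diagonal h) ∪ Set.range (a₂ ≫ pullback.diagonal h) := by
    refine Set.Subset.antisymm ?_ (Set.union_subset ?_ ?_)
    · rintro - ⟨x, rfl⟩
      rcases hs x with ⟨z, rfl⟩ | ⟨z, rfl⟩
      · exact Or.inl ⟨z, rfl⟩
      · exact Or.inr ⟨z, rfl⟩
    · rintro - ⟨z, rfl⟩; exact ⟨a₁ z, rfl⟩
    · rintro - ⟨z, rfl⟩; exact ⟨a₂ z, rfl⟩
  rw [hr]
  exact (key a₁).union (key a₂)

/-- Properness of a closed subset does not depend on the scheme structure. -/
theorem isProper_comp_of_isProperOver_range (c : Z ⟶ U) [IsClosedImmersion c] (g : U ⟶ S) [LocallyOfFiniteType g]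
    (h : ClSub.IsProperOver g (Set.range c)) : IsProper (c ≫ g) := by
  obtain ⟨hcl, hp⟩ := h
  have hUC : UniversallyClosed (c ≫ g) ∧ IsSeparated (c ≫ g) := by
    let Zc : TopologicalSpace.Closeds U := ⟨Set.range c, hcl⟩
    let ι := (Scheme.IdealSheafData.vanishingIdeal Zc).subschemeι
    have hle : c.ker ≤ ι.ker := by
      rw [Scheme.IdealSheafData.ker_subschemeι, ← Scheme.IdealSheafData.le_support_iff_le_vanishingIdeal]
      exact c.range_subset_ker_support
    have hl : IsClosedImmersion.lift c ι hle ≫ c = ι := IsClosedImmersion.lift_fac _ _ _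
    haveI : IsProper (ι ≫ g) := hp
    haveI : UniversallyClosed (IsClosedImmersion.lift c ι hle ≫ c ≫ g) := by
      rw [← Category.assoc, hl]
      infer_instance
    haveI : Surjective (IsClosedImmersion.lift c ι hle) := ⟨fun z => by
      obtain ⟨w, hw⟩ : c z ∈ Set.range ι := by
        rw [range_subscheme _ hcl]
        exact ⟨z, rfl⟩
      refine ⟨w, c.isClosedEmbedding.injective ?_⟩
      rw [← hw]
      exact (Scheme.Hom.comp_apply _ _ _).symm.trans congr($hl w)⟩
    haveI : IsClosedImmersion (IsClosedImmersion.lift c ι hle ≫ c) := hl.symm ▸ inferInstance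
    haveI := IsClosedImmersion.of_comp_isClosedImmersion (IsClosedImmersion.lift c ι hle) c
    haveI : IsSeparated (IsClosedImmersion.lift c ι hle ≫ c ≫ g) := by
      rw [← Category.assoc, hl]
      infer_instance
    refine ⟨UniversallyClosed.of_comp_surjective (IsClosedImmersion.lift c ι hle) _,
      isSeparated_of_two (c ≫ g) (IsClosedImmersion.lift c ι hle) (IsClosedImmersion.lift c ι hle) fun z => Or.inl ?_⟩
    exact (IsClosedImmersion.lift c ι hle).surjective z
  haveI := hUC.1
  haveI := hUC.2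
  exact {}

theorem isProperOver_of_subset (g : U ⟶ S) {C D : Set U} (hC : IsClosed C) (hCD : C ⊆ D)
    (hD : ClSub.IsProperOver g D) : ClSub.IsProperOver g C := by
  obtain ⟨hDc, hp⟩ := hD
  let ιC := (Scheme.IdealSheafData.vanishingIdeal ⟨C, hC⟩).subschemeι
  let ιD := (Scheme.IdealSheafData.vanishingIdeal ⟨D, hDc⟩).subschemeι
  have hle : ιD.ker ≤ ιC.ker := by
    rw [Scheme.IdealSheafData.ker_subschemeι, Scheme.IdealSheafData.ker_subschemeι]
    exact Scheme.IdealSheafData.vanishingIdeal_antimono hCD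
  have hl : IsClosedImmersion.lift ιD ιC hle ≫ ιD = ιC := IsClosedImmersion.lift_fac _ _ _
  haveI : IsClosedImmersion (IsClosedImmersion.lift ιD ιC hle ≫ ιD) := hl.symm ▸ inferInstance
  haveI := IsClosedImmersion.of_comp_isClosedImmersion (IsClosedImmersion.lift ιD ιC hle) ιD
  haveI : IsProper (ιD ≫ g) := hp
  refine ⟨hC, ?_⟩
  show IsProper (ιC ≫ g)
  rw [← hl, Category.assoc]
  infer_instance

theorem isProperOver_empty (g : U ⟶ S) [LocallyOfFiniteType g] :
    ClSub.IsProperOver g ∅ := by
  refine ⟨isClosed_empty, ?_⟩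
  let ι := (Scheme.IdealSheafData.vanishingIdeal (⟨∅, isClosed_empty⟩ : TopologicalSpace.Closeds U)).subschemeι
  haveI : IsEmpty (Scheme.IdealSheafData.vanishingIdeal
      (⟨∅, isClosed_empty⟩ : TopologicalSpace.Closeds U)).subscheme :=
    ⟨fun x => Set.notMem_empty (ι x) ((range_subscheme ∅ isClosed_empty).subset ⟨x, rfl⟩)⟩
  haveI : UniversallyClosed (ι ≫ g) := ⟨MorphismProperty.universally_mk' _ _ fun {T} t _ => by
    haveI : IsEmpty ↑(pullback t (ι ≫ g)) := Function.isEmpty (pullback.snd t (ι ≫ g)).base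
    intro s _
    rw [Set.eq_empty_of_isEmpty s, Set.image_empty]
    exact isClosed_empty⟩
  exact {}

/-- Universal closedness from two pieces. -/
theorem universallyClosed_of_two {W Z₁ Z₂ : Scheme.{u}} (h : W ⟶ S) (a₁ : Z₁ ⟶ W) (a₂ : Z₂ ⟶ W)
    (hs : ∀ x, x ∈ Set.range a₁ ∨ x ∈ Set.range a₂) [UniversallyClosed (a₁ ≫ h)] [UniversallyClosed (a₂ ≫ h)] :
    UniversallyClosed h := by
  refine ⟨MorphismProperty.universally_mk' _ _ fun {T} t _ => ?_⟩
  have key : ∀ {Z' : Scheme.{u}} (a : Z' ⟶ W) [UniversallyClosed (a ≫ h)] (C : Set ↑(pullback t h)), IsClosed C →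
      IsClosed ((pullback.fst t h) '' (C ∩ Set.range (pullback.fst (pullback.snd t h) a))) := by
    intro Z' a _ C hC
    haveI : UniversallyClosed (pullback.fst (pullback.snd t h) a ≫ pullback.fst t h) :=
      MorphismProperty.of_isPullback ((IsPullback.of_hasPullback (pullback.snd t h) a).paste_horiz
        (IsPullback.of_hasPullback t h)).flip ‹UniversallyClosed (a ≫ h)›
    rw [← Set.image_preimage_eq_inter_range, ← Set.image_comp, ← TopCat.coe_comp, ← Scheme.Hom.comp_base]
    exact (pullback.fst (pullback.snd t h) a ≫ pullback.fst t h).isClosedMap _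
      (hC.preimage (pullback.fst (pullback.snd t h) a).continuous)
  intro C hC
  have hcov : C = C ∩ Set.range (pullback.fst (pullback.snd t h) a₁) ∪
      C ∩ Set.range (pullback.fst (pullback.snd t h) a₂) := by
    refine Set.Subset.antisymm (fun p hp => ?_) (Set.union_subset Set.inter_subset_left Set.inter_subset_left)
    rcases hs (pullback.snd t h p) with ⟨z, hz⟩ | ⟨z, hz⟩
    · obtain ⟨q, hq, -⟩ := Scheme.Pullback.exists_preimage_pullback (f := pullback.snd t h) (g := a₁) p z hz.symm
      exact Or.inl ⟨hp, q, hq⟩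
    · obtain ⟨q, hq, -⟩ := Scheme.Pullback.exists_preimage_pullback (f := pullback.snd t h) (g := a₂) p z hz.symm
      exact Or.inr ⟨hp, q, hq⟩
  rw [hcov, Set.image_union]
  exact (key a₁ C hC).union (key a₂ C hC)

theorem isProperOver_union (g : U ⟶ S) [LocallyOfFiniteType g] {A B : Set U}
    (hA : ClSub.IsProperOver g A) (hB : ClSub.IsProperOver g B) : ClSub.IsProperOver g (A ∪ B) := by
  obtain ⟨hAc, hAp⟩ := hA
  obtain ⟨hBc, hBp⟩ := hB
  let ιA := (Scheme.IdealSheafData.vanishingIdeal ⟨A, hAc⟩).subschemeι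
  let ιB := (Scheme.IdealSheafData.vanishingIdeal ⟨B, hBc⟩).subschemeι
  let ιW := (Scheme.IdealSheafData.vanishingIdeal ⟨A ∪ B, hAc.union hBc⟩).subschemeι
  have hleA : ιW.ker ≤ ιA.ker := by
    rw [Scheme.IdealSheafData.ker_subschemeι, Scheme.IdealSheafData.ker_subschemeι]
    exact Scheme.IdealSheafData.vanishingIdeal_antimono Set.subset_union_left
  have hleB : ιW.ker ≤ ιB.ker := by
    rw [Scheme.IdealSheafData.ker_subschemeι, Scheme.IdealSheafData.ker_subschemeι]
    exact Scheme.IdealSheafData.vanishingIdeal_antimono Set.subset_union_right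
  let a₁ := IsClosedImmersion.lift ιW ιA hleA
  let a₂ := IsClosedImmersion.lift ιW ιB hleB
  have h1 : a₁ ≫ ιW = ιA := IsClosedImmersion.lift_fac _ _ _
  have h2 : a₂ ≫ ιW = ιB := IsClosedImmersion.lift_fac _ _ _
  haveI : IsProper (ιA ≫ g) := hAp
  haveI : IsProper (ιB ≫ g) := hBp
  haveI : UniversallyClosed (a₁ ≫ ιW ≫ g) := by rw [← Category.assoc, h1]; infer_instance
  haveI : UniversallyClosed (a₂ ≫ ιW ≫ g) := by rw [← Category.assoc, h2]; infer_instance
  have hcov : ∀ x, x ∈ Set.range a₁ ∨ x ∈ Set.range a₂ := fun x => by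
    have hx : ιW x ∈ A ∪ B := (range_subscheme _ (hAc.union hBc)).subset ⟨x, rfl⟩
    rcases hx with hx | hx
    · obtain ⟨z, hz⟩ := (range_subscheme A hAc).symm.subset hx
      exact Or.inl ⟨z, ιW.isClosedEmbedding.injective (by rw [← hz]; exact congr($h1 z))⟩
    · obtain ⟨z, hz⟩ := (range_subscheme B hBc).symm.subset hx
      exact Or.inr ⟨z, ιW.isClosedEmbedding.injective (by rw [← hz]; exact congr($h2 z))⟩
  haveI : IsClosedImmersion (a₁ ≫ ιW) := h1.symm ▸ inferInstance
  haveI := IsClosedImmersion.of_comp_isClosedImmersion a₁ ιW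
  haveI : IsClosedImmersion (a₂ ≫ ιW) := h2.symm ▸ inferInstance
  haveI := IsClosedImmersion.of_comp_isClosedImmersion a₂ ιW
  haveI : IsSeparated (a₁ ≫ ιW ≫ g) := by rw [← Category.assoc, h1]; infer_instance
  haveI : IsSeparated (a₂ ≫ ιW ≫ g) := by rw [← Category.assoc, h2]; infer_instance
  haveI : UniversallyClosed (ιW ≫ g) := universallyClosed_of_two (ιW ≫ g) a₁ a₂ hcov
  haveI : IsSeparated (ιW ≫ g) := isSeparated_of_two (ιW ≫ g) a₁ a₂ hcov
  refine ⟨hAc.union hBc, ?_⟩
  show IsProper (ιW ≫ g)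
  exact {}

theorem isProperOver_preimage {U' S' : Scheme.{u}} {g : U ⟶ S} {g' : U' ⟶ S'} {a : U' ⟶ U} {b : S' ⟶ S}
    (sq : IsPullback a g' g b) {C : Set U} (hC : ClSub.IsProperOver g C) : ClSub.IsProperOver g' (a ⁻¹' C) := by
  obtain ⟨hCc, hp⟩ := hC
  let ι := (Scheme.IdealSheafData.vanishingIdeal ⟨C, hCc⟩).subschemeι
  haveI : IsProper (ι ≫ g) := hp
  haveI : IsProper (pullback.snd ι a ≫ g') :=
    MorphismProperty.of_isPullback ((IsPullback.of_hasPullback ι a).flip.paste_horiz sq.flip).flip ‹IsProper (ι ≫ g)›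
  have hr : a ⁻¹' C = Set.range (pullback.snd ι a) := by
    rw [Scheme.Pullback.range_snd, range_subscheme C hCc]
  rw [hr]
  exact isProperOver_range_of_closedImmersion _ g'

/-- Properness of a closed subset is local for etale covers of the base. -/
theorem isProperOver_of_cover {g : U ⟶ S} [LocallyOfFiniteType g] {C : Set U} (hC : IsClosed C)
    (h : ∀ s : S, ∃ (U' W : Scheme.{u}) (b : W ⟶ S) (a : U' ⟶ U) (g' : U' ⟶ W),
      Etale b ∧ IsPullback a g' g b ∧ s ∈ Set.range b ∧ ClSub.IsProperOver g' (a ⁻¹' C)) :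
    ClSub.IsProperOver g C := by
  choose U' W b a g' hb sq hs hp using h
  let ι := (Scheme.IdealSheafData.vanishingIdeal ⟨C, hC⟩).subschemeι
  haveI : ∀ s, Etale (b s) := hb
  let β : (∐ W) ⟶ S := Sigma.desc b
  have key : ∀ s, IsProper (pullback.snd (ι ≫ g) (b s)) := fun s => by
    haveI : LocallyOfFiniteType (g' s) := MorphismProperty.of_isPullback (sq s) inferInstance
    have hr : Set.range (pullback.snd ι (a s)) = (a s) ⁻¹' C := by
      rw [Scheme.Pullback.range_snd, range_subscheme C hC]
    have hU : IsProper (pullback.snd ι (a s) ≫ g' s) :=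
      isProper_comp_of_isProperOver_range _ _ (hr.symm ▸ hp s)
    have sq' : IsPullback (pullback.fst ι (a s)) (pullback.snd ι (a s) ≫ g' s) (ι ≫ g) (b s) :=
      ((IsPullback.of_hasPullback ι (a s)).flip.paste_horiz (sq s).flip).flip
    rw [← sq'.isoPullback_inv_snd]
    infer_instance
  have hβ : (@Surjective ⊓ @Flat ⊓ @LocallyOfFinitePresentation : MorphismProperty Scheme) β := by
    have he : Etale β := by
      refine (IsZariskiLocalAtSource.iff_of_openCover (P := @Etale) (sigmaOpenCover W)).2 fun s => ?_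
      show Etale (Sigma.ι W s ≫ Sigma.desc b)
      rw [Sigma.ι_desc]
      exact hb s
    refine ⟨⟨⟨fun s => ?_⟩, inferInstance⟩, inferInstance⟩
    obtain ⟨w, hw⟩ := hs s
    refine ⟨Sigma.ι W s w, ?_⟩
    rw [← Scheme.Hom.comp_apply, Sigma.ι_desc, hw]
  have hUC : IsProper (pullback.snd (ι ≫ g) β) := by
    refine (IsZariskiLocalAtTarget.iff_of_openCover (P := @IsProper) (sigmaOpenCover W)).2 fun s => ?_
    show IsProper (pullback.snd (pullback.snd (ι ≫ g) β) (Sigma.ι W s))
    have sq' : IsPullback (pullback.fst (pullback.snd (ι ≫ g) β) (Sigma.ι W s) ≫ pullback.fst (ι ≫ g) β)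
        (pullback.snd (pullback.snd (ι ≫ g) β) (Sigma.ι W s)) (ι ≫ g) (b s) := by
      have h0 := (IsPullback.of_hasPullback (pullback.snd (ι ≫ g) β) (Sigma.ι W s)).paste_horiz
        (IsPullback.of_hasPullback (ι ≫ g) β)
      rwa [show Sigma.ι W s ≫ β = b s from Sigma.ι_desc _ _] at h0
    haveI := key s
    rw [← sq'.isoPullback_hom_snd]
    infer_instance
  haveI : UniversallyClosed (ι ≫ g) :=
    MorphismProperty.of_isPullback_of_descendsAlong (Q := @Surjective ⊓ @Flat ⊓ @LocallyOfFinitePresentation)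
      (IsPullback.of_hasPullback (ι ≫ g) β).flip hβ hUC.toUniversallyClosed
  haveI : IsSeparated (ι ≫ g) := isSeparated_of_universallyClosed_diagonal _ <| by
    haveI : IsSeparated (pullback.snd (ι ≫ g) β) := hUC.toIsSeparated
    exact (MorphismProperty.diagonal_iff (P := @UniversallyClosed)).1
      (MorphismProperty.of_isPullback_of_descendsAlong (P := MorphismProperty.diagonal @UniversallyClosed)
        (Q := @Surjective ⊓ @Flat ⊓ @LocallyOfFinitePresentation)
        (IsPullback.of_hasPullback (ι ≫ g) β).flip hβ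
        ((MorphismProperty.diagonal_iff (P := @UniversallyClosed)).2 inferInstance))
  refine ⟨hC, ?_⟩
  show IsProper (ι ≫ g)
  exact {}

end Schemes

end Groth.L27.Supp
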