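import Groth.Prelude.Def_EtShriek2

/-! # Continuity of composition with an etale morphism -/

universe u

open CategoryTheory CategoryTheory.Limits AlgebraicGeometry Opposite

set_option backward.isDefEq.respectTransparency.types false
set_option linter.style.haveILetI false

namespace Groth.L27.ExtZero

variable {U X : Scheme.{u}} (j : U ⟶ X) [hj : Etale j]

/-- Composition with an etale morphism is continuous. -/
theorem jCont : EtShriek.JCont j := by
  refine Functor.isContinuous_of_coverPreserving ⟨fun ℱ Z T x hx Y₁ Y₂ W f₁ f₂ g₁ g₂ hg₁ hg₂ e => ?_⟩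
    (EtShriek.coverPreserving_compEtale j)
  have el : f₁.left ≫ g₁.left = f₂.left ≫ g₂.left := congrArg (fun m => m.left) e
  have hh : f₁.left ≫ Y₁.hom = f₂.left ≫ Y₂.hom := by
    exact (congrArg (f₁.left ≫ ·) (MorphismProperty.Over.w g₁).symm).trans ((Category.assoc _ _ _).symm.trans
      ((congrArg (· ≫ Z.hom) el).trans ((Category.assoc _ _ _).trans
        (congrArg (f₂.left ≫ ·) (MorphismProperty.Over.w g₂)))))
  have hW : (f₁.left ≫ Y₁.hom) ≫ j = W.hom := (Category.assoc _ _ _).trans (MorphismProperty.Over.w f₁)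
  have hW' : EtCoh.etaleMP ((f₁.left ≫ Y₁.hom) ≫ j) := by rw [hW]; exact W.prop
  let W' : U.Etale := MorphismProperty.Over.mk ⊤ (f₁.left ≫ Y₁.hom)
    (EtCoh.etaleMP.of_postcomp (W' := EtCoh.etaleMP) (f₁.left ≫ Y₁.hom) j hj hW')
  let a₁ : W' ⟶ Y₁ := MorphismProperty.Over.homMk f₁.left rfl
  let a₂ : W' ⟶ Y₂ := MorphismProperty.Over.homMk f₂.left hh.symm
  let φ : W ⟶ (EtShriek.compEtale j).obj W' :=
    MorphismProperty.Over.homMk (𝟙 W.left) ((Category.id_comp _).trans hW)
  rw [show f₁ = φ ≫ (EtShriek.compEtale j).map a₁ from MorphismProperty.Over.Hom.ext (Category.id_comp _).symm,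
    show f₂ = φ ≫ (EtShriek.compEtale j).map a₂ from MorphismProperty.Over.Hom.ext (Category.id_comp _).symm,
    op_comp, op_comp, Functor.map_comp_apply, Functor.map_comp_apply]
  exact congrArg (ℱ.obj.map φ.op) (hx a₁ a₂ hg₁ hg₂ (MorphismProperty.Over.Hom.ext el))

end Groth.L27.ExtZero
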