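import Groth.Prelude.Def_EtShriek2
import Mathlib.Algebra.Category.Grp.AB
import Mathlib.Algebra.Category.Grp.Colimits
import Mathlib.Algebra.Homology.ShortComplex.PreservesHomology
import Mathlib.CategoryTheory.Abelian.GrothendieckCategory.EnoughInjectives
import Mathlib.CategoryTheory.Sites.LeftExact
import Mathlib.CategoryTheory.Sites.Abelian

/-! # Extension by zero along an etale morphism is exact -/

universe u

open CategoryTheory CategoryTheory.Limits AlgebraicGeometry Opposite

set_option backward.isDefEq.respectTransparency.types false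
set_option linter.style.haveILetI false
set_option linter.unusedSectionVars false

namespace Groth.L27.ExtZero

variable {U X : Scheme.{u}} (j : U ⟶ X)

/-- The lifts of an etale scheme over `X` to `U`. -/
abbrev Lifts (W : X.Etale) : Type u := { s : W.left ⟶ U // s ≫ j = W.hom }

variable [hj : Etale j]

/-- A lift as an etale scheme over `U`. -/
noncomputable abbrev liftObj (W : X.Etale) (s : W.left ⟶ U) (h : s ≫ j = W.hom) : U.Etale :=
  MorphismProperty.Over.mk ⊤ s
    (EtCoh.etaleMP.of_postcomp (W' := EtCoh.etaleMP) s j hj (by rw [h]; exact W.prop))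

/-- The morphism of lifts over a morphism. -/
noncomputable abbrev liftMap {W W' : X.Etale} (m : W' ⟶ W) {s : W.left ⟶ U} (h : s ≫ j = W.hom)
    {s' : W'.left ⟶ U} (h' : s' ≫ j = W'.hom) (e : m.left ≫ s = s') : liftObj j W' s' h' ⟶ liftObj j W s h :=
  MorphismProperty.Over.homMk m.left e

theorem lift_w {W W' : X.Etale} (m : W' ⟶ W) {s : W.left ⟶ U} (h : s ≫ j = W.hom) :
    (m.left ≫ s) ≫ j = W'.hom :=
  (Category.assoc _ _ _).trans ((congrArg (m.left ≫ ·) h).trans (MorphismProperty.Over.w m))

variable (P : U.Etaleᵒᵖ ⥤ AddCommGrpCat.{u + 1})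

theorem map_ι {W' : X.Etale} {T : U.Etale} {s₁ s₂ : W'.left ⟶ U} (h₁ : s₁ ≫ j = W'.hom) (h₂ : s₂ ≫ j = W'.hom)
    (a : liftObj j W' s₁ h₁ ⟶ T) (b : liftObj j W' s₂ h₂ ⟶ T) (hab : a.left = b.left) (e : s₁ = s₂) :
    P.map a.op ≫ Sigma.ι (fun t : Lifts j W' => P.obj (op (liftObj j W' t.1 t.2))) ⟨s₁, h₁⟩ =
      P.map b.op ≫ Sigma.ι (fun t : Lifts j W' => P.obj (op (liftObj j W' t.1 t.2))) ⟨s₂, h₂⟩ := by
  subst e
  rw [show a = b from MorphismProperty.Over.Hom.ext hab]

/-- The presheaf extension by zero. -/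
noncomputable def jObj : X.Etaleᵒᵖ ⥤ AddCommGrpCat.{u + 1} where
  obj W := ∐ fun s : Lifts j W.unop => P.obj (op (liftObj j W.unop s.1 s.2))
  map {W W'} m := Sigma.desc fun s =>
    P.map (liftMap j m.unop s.2 (lift_w j m.unop s.2) rfl).op ≫
      Sigma.ι (fun t : Lifts j W'.unop => P.obj (op (liftObj j W'.unop t.1 t.2))) ⟨m.unop.left ≫ s.1, lift_w j m.unop s.2⟩
  map_id W := Sigma.hom_ext _ _ fun s => by
    rw [Sigma.ι_desc, Category.comp_id]
    refine (map_ι j P (lift_w j (𝟙 W.unop) s.2) s.2 _ (𝟙 (liftObj j W.unop s.1 s.2)) rfl (Category.id_comp _)).trans ?_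
    rw [op_id, P.map_id, Category.id_comp]
  map_comp {W W' W''} m m' := Sigma.hom_ext _ _ fun s => by
    simp only [Sigma.ι_desc_assoc, Category.assoc, Sigma.ι_desc]
    rw [← Functor.map_comp_assoc, ← op_comp]
    refine map_ι j P _ _ _ _ ?_ ?_
    · rfl
    exact Category.assoc _ _ _

theorem ι_map_jObj {W W' : X.Etaleᵒᵖ} (m : W ⟶ W') (s : Lifts j W.unop) :
    Sigma.ι (fun t : Lifts j W.unop => P.obj (op (liftObj j W.unop t.1 t.2))) s ≫ (jObj j P).map m =
      P.map (liftMap j m.unop s.2 (lift_w j m.unop s.2) rfl).op ≫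
        Sigma.ι (fun t : Lifts j W'.unop => P.obj (op (liftObj j W'.unop t.1 t.2)))
          ⟨m.unop.left ≫ s.1, lift_w j m.unop s.2⟩ :=
  Sigma.ι_desc _ _

variable {P} {Q : U.Etaleᵒᵖ ⥤ AddCommGrpCat.{u + 1}}

/-- Functoriality of the presheaf extension. -/
noncomputable def jMap (φ : P ⟶ Q) : jObj j P ⟶ jObj j Q where
  app W := Limits.Sigma.map fun s => φ.app _
  naturality {W W'} m := Sigma.hom_ext _ _ fun s => by
    dsimp [jObj]
    simp [φ.naturality_assoc]

theorem mono_jMap (φ : P ⟶ Q) [Mono φ] : Mono (jMap j φ) := by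
  have : ∀ W, Mono ((jMap j φ).app W) := fun W => by
    let α : (Discrete.functor fun s : Lifts j W.unop => P.obj (op (liftObj j W.unop s.1 s.2))) ⟶
        (Discrete.functor fun s : Lifts j W.unop => Q.obj (op (liftObj j W.unop s.1 s.2))) :=
      Discrete.natTrans fun s => φ.app _
    have : ∀ s, Mono (α.app s) := fun s => inferInstanceAs (Mono (φ.app _))
    have := NatTrans.mono_of_mono_app α
    haveI : AB4OfSize.{u} AddCommGrpCat.{u + 1} := AB4OfSize_shrink.{u, u + 1} _
    exact inferInstanceAs (Mono (colim.map α))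
  exact NatTrans.mono_of_mono_app _

variable {R : X.Etaleᵒᵖ ⥤ AddCommGrpCat.{u + 1}}

/-- The map from the image of a lift. -/
noncomputable abbrev toComp (W : X.Etale) (s : W.left ⟶ U) (h : s ≫ j = W.hom) :
    W ⟶ (EtShriek.compEtale j).obj (liftObj j W s h) :=
  MorphismProperty.Over.homMk (𝟙 W.left) ((Category.id_comp _).trans h)

/-- Extending a map into a restriction. -/
noncomputable def jLift (g : P ⟶ (EtShriek.compEtale j).op ⋙ R) : jObj j P ⟶ R where
  app W := Sigma.desc fun s => g.app _ ≫ R.map (toComp j W.unop s.1 s.2).op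
  naturality {W W'} m := Sigma.hom_ext _ _ fun s => by
    dsimp [jObj]
    simp only [Sigma.ι_desc_assoc, Sigma.ι_desc, Category.assoc, NatTrans.naturality_assoc, Functor.comp_map,
      ← Functor.map_comp]
    congr 2

/-- The restriction of a map out of the extension. -/
noncomputable def back (k : jObj j Q ⟶ R) : Q ⟶ (EtShriek.compEtale j).op ⋙ R where
  app T := Sigma.ι (fun t : Lifts j ((EtShriek.compEtale j).obj T.unop) =>
      Q.obj (op (liftObj j ((EtShriek.compEtale j).obj T.unop) t.1 t.2))) ⟨T.unop.hom, rfl⟩ ≫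
    k.app ((EtShriek.compEtale j).op.obj T)
  naturality {T T'} m := by
    have hn := k.naturality ((EtShriek.compEtale j).op.map m)
    refine Eq.trans ?_ (((congrArg (Sigma.ι (fun t : Lifts j ((EtShriek.compEtale j).obj T.unop) =>
      Q.obj (op (liftObj j ((EtShriek.compEtale j).obj T.unop) t.1 t.2))) ⟨T.unop.hom, rfl⟩ ≫ ·) hn)).trans
      (Category.assoc _ _ _).symm)
    refine (Category.assoc _ _ _).symm.trans (Eq.trans ?_ (Category.assoc _ _ _))
    refine congrArg (· ≫ _) ?_
    refine Eq.trans ?_ (ι_map_jObj j Q ((EtShriek.compEtale j).op.map m) ⟨T.unop.hom, rfl⟩).symm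
    exact map_ι j Q (T := T.unop) (W' := (EtShriek.compEtale j).obj T'.unop) rfl _ m.unop _ rfl
      (MorphismProperty.Over.w m.unop).symm

theorem back_jMap (φ : P ⟶ Q) (k : jObj j Q ⟶ R) : back j (jMap j φ ≫ k) = φ ≫ back j k :=
  NatTrans.ext (funext fun _ => (Category.assoc _ _ _).symm.trans
    ((congrArg (· ≫ k.app _) (Limits.Sigma.ι_map _ _)).trans (Category.assoc _ _ _)))

theorem back_jLift (g : P ⟶ (EtShriek.compEtale j).op ⋙ R) : back j (jLift j g) = g :=
  NatTrans.ext (funext fun T => (Sigma.ι_desc _ _).trans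
    ((congrArg (g.app T ≫ ·) ((congrArg (fun l => R.map (Quiver.Hom.op l))
      (MorphismProperty.Over.Hom.ext rfl)).trans (R.map_id _))).trans (Category.comp_id _)))

instance additive_restrAlong [EtShriek.JCont j] : (EtShriek.restrAlong j).Additive where

section

variable [EtShriek.JCont j]

theorem injective_restrAlong (I : EtCoh.Ab X) [Injective I] : Injective ((EtShriek.restrAlong j).obj I) := ⟨by
  intro A B g i _
  have : Mono i.hom := inferInstanceAs (Mono ((sheafToPresheaf _ _).map i))
  have := mono_jMap j i.hom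
  let adj := sheafificationAdjunction X.smallEtaleTopology AddCommGrpCat.{u + 1}
  let g' := (adj.homEquiv _ _).symm (jLift j g.hom : jObj j A.obj ⟶ I.obj)
  obtain ⟨k, hk⟩ := Injective.factors g' ((presheafToSheaf X.smallEtaleTopology AddCommGrpCat.{u + 1}).map (jMap j i.hom))
  let k' : jObj j B.obj ⟶ I.obj := adj.homEquiv _ _ k
  have hk' : jMap j i.hom ≫ k' = jLift j g.hom := by
    refine ((adj.homEquiv_naturality_left _ _).symm).trans ?_
    rw [hk, Equiv.apply_symm_apply]
  refine ⟨⟨back j k'⟩, ObjectProperty.hom_ext _ ?_⟩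
  exact (back_jMap j i.hom k').symm.trans ((congrArg (back j) hk').trans (back_jLift j g.hom))⟩

instance preservesMonomorphisms_extZero : (EtShriek.extZero j).PreservesMonomorphisms := ⟨fun {A B} i _ => by
  let adj := EtShriek.extZeroAdj j
  let I := Injective.under ((EtShriek.extZero j).obj A)
  let a : (EtShriek.extZero j).obj A ⟶ I := Injective.ι _
  haveI : Injective ((EtShriek.restrAlong j).obj I) := injective_restrAlong j I
  let b := Injective.factorThru (adj.homEquiv _ _ a) i
  have h : (EtShriek.extZero j).map i ≫ (adj.homEquiv _ _).symm b = a := by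
    rw [← adj.homEquiv_naturality_left_symm, Injective.comp_factorThru, Equiv.symm_apply_apply]
  exact mono_of_mono_fac h⟩

instance additive_extZero : (EtShriek.extZero j).Additive :=
  (EtShriek.extZeroAdj j).left_adjoint_additive

instance preservesFiniteColimits_extZero : PreservesFiniteColimits (EtShriek.extZero j) :=
  haveI : PreservesColimitsOfSize.{0, 0} (EtShriek.extZero j) := (EtShriek.extZeroAdj j).leftAdjoint_preservesColimits
  PreservesColimitsOfSize.preservesFiniteColimits _

theorem preservesFiniteLimits_extZero : PreservesFiniteLimits (EtShriek.extZero j) :=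
  haveI : (EtShriek.extZero j).PreservesHomology :=
    Functor.preservesHomology_of_preservesMonos_and_cokernels _
  Functor.preservesFiniteLimits_of_preservesHomology _

end

end Groth.L27.ExtZero
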