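import Groth.Agent.L27.ExtZero.Unique
import Groth.Agent.L27.EtSite.PushStalk
import Groth.Agent.L27.EtSite.PropA
import Mathlib.AlgebraicGeometry.Morphisms.Integral
import Mathlib.AlgebraicGeometry.Morphisms.Finite
import Mathlib.AlgebraicGeometry.Morphisms.UniversallyClosed
import Mathlib.AlgebraicGeometry.Morphisms.UniversallyInjective

/-! # The sequence of an open subscheme and its closed complement -/

universe u

open CategoryTheory CategoryTheory.Limits AlgebraicGeometry Opposite

set_option backward.isDefEq.respectTransparency.types false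
set_option linter.style.haveILetI false
set_option linter.unusedSectionVars false
set_option linter.unusedVariables false

namespace Groth.L27.ExtZero

variable {U X : Scheme.{u}} (j : U ⟶ X) [IsOpenImmersion j] [AlgebraicGeometry.Etale j] [EtShriek.JCont j]
  {Z : Scheme.{u}} (i : Z ⟶ X) [IsClosedImmersion i] (hij : Set.range j.base = (Set.range i.base)ᶜ)
  (F : EtCoh.Ab X) {Ω : Type u} [Field Ω] [IsSepClosed Ω] (ξ : Spec (CommRingCat.of Ω) ⟶ X)

theorem isIso_stalk_counit_inside (hx : ξ.base default ∈ Set.range j.base) :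
    IsIso ((EtCoh.stalk ξ).map ((EtShriek.extZeroAdj j).counit.app F)) := by
  have hr : Set.range ξ ⊆ Set.range j := by
    rintro - ⟨z, rfl⟩; rwa [Subsingleton.elim z default]
  obtain ⟨v, rfl⟩ : ∃ v, v ≫ j = ξ := ⟨IsOpenImmersion.lift j ξ hr, IsOpenImmersion.lift_fac j ξ hr⟩
  haveI := (isIso_counit_of_mono j).2
  haveI : IsIso ((EtShriek.restrAlong j).map ((EtShriek.extZeroAdj j).counit.app F)) := by
    haveI : IsIso ((EtShriek.extZeroAdj j).unit.app ((EtShriek.restrAlong j).obj F) ≫
        (EtShriek.restrAlong j).map ((EtShriek.extZeroAdj j).counit.app F)) := by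
      rw [(EtShriek.extZeroAdj j).right_triangle_components F]; exact IsIso.id _
    exact IsIso.of_isIso_comp_left ((EtShriek.extZeroAdj j).unit.app ((EtShriek.restrAlong j).obj F)) _
  haveI : IsIso ((EtCoh.pull j).map ((EtShriek.extZeroAdj j).counit.app F)) :=
    (NatIso.isIso_map_iff (pullRestr j) _).2 inferInstance
  exact (NatIso.isIso_map_iff (EtSite.stalkPullIso j v) _).1
    (inferInstanceAs (IsIso ((EtCoh.stalk v).map ((EtCoh.pull j).map _))))

include hij in
theorem isIso_stalk_unit_outside (hx : ξ.base default ∉ Set.range j.base) :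
    IsIso ((EtCoh.stalk ξ).map ((EtCoh.pullPushAdj i).unit.app F)) := by
  have hr : Set.range ξ ⊆ Set.range i := by
    rintro - ⟨z, rfl⟩
    rw [hij, Set.mem_compl_iff, not_not] at hx
    rwa [Subsingleton.elim z default]
  obtain ⟨w, rfl⟩ : ∃ w, w ≫ i = ξ := by
    obtain ⟨z, hz⟩ := hr ⟨default, rfl⟩
    haveI : Surjective (pullback.snd i ξ) := ⟨fun y => by
      obtain ⟨t, -, ht⟩ := Scheme.Pullback.exists_preimage_pullback (f := i) (g := ξ) z y
        (by rw [hz, Subsingleton.elim y default])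
      exact ⟨t, ht⟩⟩
    haveI : IsIso (pullback.snd i ξ) := isIso_of_isClosedImmersion_of_surjective _
    exact ⟨inv (pullback.snd i ξ) ≫ pullback.fst i ξ, by
      rw [Category.assoc, pullback.condition, IsIso.inv_hom_id_assoc]⟩
  haveI := EtSite.isIso_counit i (EtSite.propA_of_isIntegralHom i) ((EtCoh.pull i).obj F)
  haveI : IsIso ((EtCoh.pull i).map ((EtCoh.pullPushAdj i).unit.app F)) := by
    haveI : IsIso ((EtCoh.pull i).map ((EtCoh.pullPushAdj i).unit.app F) ≫
        (EtCoh.pullPushAdj i).counit.app ((EtCoh.pull i).obj F)) := by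
      rw [(EtCoh.pullPushAdj i).left_triangle_components F]; exact IsIso.id _
    exact IsIso.of_isIso_comp_right _ ((EtCoh.pullPushAdj i).counit.app ((EtCoh.pull i).obj F))
  exact (NatIso.isIso_map_iff (EtSite.stalkPullIso i w) _).1
    (inferInstanceAs (IsIso ((EtCoh.stalk w).map ((EtCoh.pull i).map _))))

include hij in
theorem exists_shortExact_recollement :
    ∃ w : (EtShriek.extZeroAdj j).counit.app F ≫ (EtCoh.pullPushAdj i).unit.app F = 0,
      (ShortComplex.mk _ _ w).ShortExact := by
  have hout : ∀ (Ω : Type u) [Field Ω] [IsSepClosed Ω] (ξ : Spec (CommRingCat.of Ω) ⟶ X),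
      ξ.base default ∉ Set.range j.base →
        IsZero ((EtCoh.stalk ξ).obj ((EtShriek.extZero j).obj ((EtShriek.restrAlong j).obj F))) :=
    fun Ω _ _ ξ hx => isZero_stalk_extZero_of_outside j ξ (by rintro - ⟨z, rfl⟩; rwa [Subsingleton.elim z default]) _
  have hin : ∀ (Ω : Type u) [Field Ω] [IsSepClosed Ω] (ξ : Spec (CommRingCat.of Ω) ⟶ X),
      ξ.base default ∈ Set.range j.base →
        IsZero ((EtCoh.stalk ξ).obj ((EtCoh.push i).obj ((EtCoh.pull i).obj F))) :=
    fun Ω _ _ ξ hx => EtSite.isZero_stalk_push i _ ξ (by rw [hij] at hx; exact hx)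
  have w : (EtShriek.extZeroAdj j).counit.app F ≫ (EtCoh.pullPushAdj i).unit.app F = 0 := by
    refine ((EtShriek.extZeroAdj j).homEquiv _ _).injective ?_
    have hz : IsZero ((EtShriek.restrAlong j).obj ((EtCoh.push i).obj ((EtCoh.pull i).obj F))) := by
      refine IsZero.of_iso ?_ ((pullRestr j).app _).symm
      refine (EtSite.isZero_iff_stalks _).2 fun Ω _ _ v => ?_
      exact IsZero.of_iso (hin Ω (v ≫ j) ⟨v.base default, rfl⟩) ((EtSite.stalkPullIso j v).app _)
    exact hz.eq_of_tgt _ _
  refine ⟨w, ?_⟩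
  have hm : ∀ (Ω : Type u) [Field Ω] [IsSepClosed Ω] (ξ : Spec (CommRingCat.of Ω) ⟶ X),
      Function.Injective ((EtCoh.stalk ξ).map ((EtShriek.extZeroAdj j).counit.app F)) := by
    intro Ω _ _ ξ
    by_cases hx : ξ.base default ∈ Set.range j.base
    · haveI := isIso_stalk_counit_inside j F ξ hx
      exact (ConcreteCategory.bijective_of_isIso ((EtCoh.stalk ξ).map ((EtShriek.extZeroAdj j).counit.app F))).1
    · haveI := AddCommGrpCat.subsingleton_of_isZero (hout Ω ξ hx)
      exact fun a b _ => @Subsingleton.elim _ this a b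
  have he : ∀ (Ω : Type u) [Field Ω] [IsSepClosed Ω] (ξ : Spec (CommRingCat.of Ω) ⟶ X),
      Function.Surjective ((EtCoh.stalk ξ).map ((EtCoh.pullPushAdj i).unit.app F)) := by
    intro Ω _ _ ξ
    by_cases hx : ξ.base default ∈ Set.range j.base
    · haveI := AddCommGrpCat.subsingleton_of_isZero (hin Ω ξ hx)
      exact fun b => ⟨0, @Subsingleton.elim _ this _ b⟩
    · haveI := isIso_stalk_unit_outside j i hij F ξ hx
      exact (ConcreteCategory.bijective_of_isIso ((EtCoh.stalk ξ).map ((EtCoh.pullPushAdj i).unit.app F))).2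
  haveI : Mono (ShortComplex.mk _ _ w).f := (EtSite.mono_iff_stalks _).2 hm
  haveI : Epi (ShortComplex.mk _ _ w).g := (EtSite.epi_iff_stalks _).2 he
  refine ⟨(EtSite.exact_iff_stalks _).2 fun Ω _ _ ξ => ?_⟩
  by_cases hx : ξ.base default ∈ Set.range j.base
  · haveI : IsIso ((ShortComplex.mk _ _ w).map (EtCoh.stalk ξ)).f := isIso_stalk_counit_inside j F ξ hx
    exact (ShortComplex.exact_iff_epi _ ((hin Ω ξ hx).eq_of_tgt _ _)).2 inferInstance
  · haveI : IsIso ((ShortComplex.mk _ _ w).map (EtCoh.stalk ξ)).g := isIso_stalk_unit_outside j i hij F ξ hx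
    exact (ShortComplex.exact_iff_mono _ ((hout Ω ξ hx).eq_of_src _ _)).2 inferInstance

end Groth.L27.ExtZero
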