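import Groth.Agent.L27.ExtZero.ShriekComp

/-! # Direct image with proper support along a proper morphism -/

universe u

open CategoryTheory CategoryTheory.Limits AlgebraicGeometry Opposite

set_option backward.isDefEq.respectTransparency.types false
set_option linter.style.haveILetI false
set_option linter.unusedSectionVars false
set_option linter.unusedVariables false

namespace Groth.L27.Supp

variable {X Y : Scheme.{u}} (h : X ⟶ Y) [IsProper h] (F : EtCoh.Ab X)

theorem isProperSect_of_isProper {V : Y.Etale} (s : EtCoh.sect F ((EtCoh.bc h).obj V)) : IsProperSect h F s := by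
  haveI : IsProper (EtShriek.prV h V) := MorphismProperty.pullback_fst _ _ inferInstance
  have hc := isClosed_supp F s
  refine ⟨hc, ?_⟩
  show IsProper ((Scheme.IdealSheafData.vanishingIdeal ⟨_, hc⟩).subschemeι ≫ EtShriek.prV h V)
  infer_instance

theorem isIso_lowerShriekToPush : IsIso (EtShriek.lowerShriekToPush h F) := by
  haveI : ∀ V, IsIso ((EtShriek.lowerShriekPreι h F).app V) := fun V =>
    (ConcreteCategory.isIso_iff_bijective _).2 ⟨Subtype.val_injective, fun s =>
      ⟨⟨s, (mem_shriekSubgroup_iff h F s).2 (isProperSect_of_isProper h F s)⟩, rfl⟩⟩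
  haveI : IsIso (EtShriek.lowerShriekPreι h F) := NatIso.isIso_of_isIso_app _
  haveI := isIso_toSheafify_shriek h F
  have key : IsIso (EtShriek.lowerShriekToPush h F).hom :=
    @IsIso.of_isIso_fac_left _ _ _ _ _ _ _ _ (isIso_toSheafify_shriek h F) inferInstance
      (toSheafify_comp_lowerShriekToPush h F)
  haveI : IsIso ((sheafToPresheaf _ _).map (EtShriek.lowerShriekToPush h F)) := key
  exact isIso_of_reflects_iso (EtShriek.lowerShriekToPush h F) (sheafToPresheaf _ _)

theorem lowerShriekToPush_naturality {A B : EtCoh.Ab X} (α : A ⟶ B) :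
    (EtShriek.lowerShriek h).map α ≫ EtShriek.lowerShriekToPush h B =
      EtShriek.lowerShriekToPush h A ≫ (EtCoh.push h).map α := by
  let adj := sheafificationAdjunction Y.smallEtaleTopology AddCommGrpCat.{u + 1}
  exact (adj.homEquiv_naturality_left_symm (Y := (EtCoh.push h).obj B) ((EtShriek.lowerShriekPreFunctor h).map α)
    (EtShriek.lowerShriekPreι h B)).symm.trans ((congrArg (adj.homEquiv _ ((EtCoh.push h).obj B)).symm (by rfl)).trans
      (adj.homEquiv_naturality_right_symm (Y := (EtCoh.push h).obj A) (EtShriek.lowerShriekPreι h A) ((EtCoh.push h).map α)))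

/-- For a proper morphism the direct image with proper support is the direct image. -/
noncomputable def shriekPushIso : EtShriek.lowerShriek h ≅ EtCoh.push h :=
  NatIso.ofComponents (fun F => @asIso _ _ _ _ (EtShriek.lowerShriekToPush h F) (isIso_lowerShriekToPush h F))
    (fun α => lowerShriekToPush_naturality h α)

/-- Transport along an equality. -/
noncomputable def shriekCongr {f f' : X ⟶ Y} (e : f = f') : EtShriek.lowerShriek f ≅ EtShriek.lowerShriek f' :=
  eqToIso (by rw [e])

end Groth.L27.Supp
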