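import Groth.Agent.L27.EtSite.Common
import Groth.Agent.L23.QFDescent
import Groth.Prelude.Def_EtShriek2
import Mathlib.AlgebraicGeometry.ZariskisMainTheorem
import Mathlib.AlgebraicGeometry.IdealSheaf.Functorial
import Mathlib.LinearAlgebra.FreeModule.Finite.Matrix

/-! # Supports of sections on the small etale site -/

universe u

open CategoryTheory CategoryTheory.Limits AlgebraicGeometry Opposite

set_option backward.isDefEq.respectTransparency.types false
set_option linter.style.haveILetI false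
set_option linter.unusedSectionVars false
set_option linter.unusedVariables false

namespace Groth.L27.Supp

variable {X : Scheme.{u}} (F : EtCoh.Ab X) {U : X.Etale}

theorem supp_zero : EtShriek.sectSupp F U 0 = ∅ := by
  refine Set.eq_empty_iff_forall_notMem.2 fun x hx => hx U (𝟙 U) ⟨x, rfl⟩ ?_
  exact map_zero _

theorem supp_neg (s : EtCoh.sect F U) : EtShriek.sectSupp F U (-s) ⊆ EtShriek.sectSupp F U s := by
  intro x hx W g hw h0
  refine hx W g hw ?_
  rw [map_neg, h0, neg_zero]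

theorem supp_add (s t : EtCoh.sect F U) :
    EtShriek.sectSupp F U (s + t) ⊆ EtShriek.sectSupp F U s ∪ EtShriek.sectSupp F U t := by
  intro x hx
  by_contra hc
  simp only [Set.mem_union, not_or] at hc
  obtain ⟨h1, h2⟩ := hc
  simp only [EtShriek.sectSupp, Set.mem_ofPred_eq, not_forall, not_not] at h1 h2
  obtain ⟨W₁, g₁, ⟨w₁, hw₁⟩, e₁⟩ := h1
  obtain ⟨W₂, g₂, ⟨w₂, hw₂⟩, e₂⟩ := h2
  obtain ⟨W, a, b, w, ha, hb, hab⟩ := EtSite.exists_common g₁ g₂ w₁ w₂ (hw₁.trans hw₂.symm)
  refine hx W (a ≫ g₁) ⟨w, ?_⟩ ?_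
  · refine (Scheme.Hom.comp_apply _ _ _).trans ?_
    rw [ha, hw₁]
  · rw [map_add]
    nth_rw 2 [hab]
    rw [op_comp, op_comp, Functor.map_comp_apply, Functor.map_comp_apply, e₁, e₂, map_zero, map_zero, add_zero]

theorem isClosed_supp (s : EtCoh.sect F U) : IsClosed (EtShriek.sectSupp F U s) := by
  rw [← isOpen_compl_iff, isOpen_iff_forall_mem_open]
  intro x hx
  simp only [Set.mem_compl_iff, EtShriek.sectSupp, Set.mem_ofPred_eq, not_forall, not_not] at hx
  obtain ⟨W, g, hw, e⟩ := hx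
  haveI := EtSite.etale_left g
  refine ⟨Set.range g.left, ?_, g.left.isOpenMap.isOpen_range, hw⟩
  rintro - ⟨w, rfl⟩ h
  exact h W g ⟨w, rfl⟩ e

/-- A section whose support is empty vanishes. -/
theorem eq_zero_of_supp (s : EtCoh.sect F U) (h : ∀ x, x ∉ EtShriek.sectSupp F U s) : s = 0 := by
  refine EtSite.ext_of_locally F fun x => ?_
  have hx := h x
  simp only [EtShriek.sectSupp, Set.mem_ofPred_eq, not_forall, not_not] at hx
  obtain ⟨W, g, ⟨w, hw⟩, e⟩ := hx
  exact ⟨W, g, w, hw, e.trans (map_zero _).symm⟩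

theorem supp_map {V : X.Etale} (g : V ⟶ U) (s : EtCoh.sect F U) :
    EtShriek.sectSupp F V (F.obj.map g.op s) ⊆ g.left ⁻¹' EtShriek.sectSupp F U s := by
  intro x hx W h hw e
  obtain ⟨w, hw'⟩ := hw
  obtain ⟨W', a, b, w', ha, hb, hab⟩ := EtSite.exists_common g h x w hw'.symm
  refine hx W' a ⟨w', ha⟩ ?_
  rw [← Functor.map_comp_apply, ← op_comp, hab, op_comp, Functor.map_comp_apply, e, map_zero]

variable {S Z : Scheme.{u}}

/-- Proper support from a closed immersion proper over the base. -/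
theorem hasProperSupport_of_closedImmersion (s : EtCoh.sect F U) (g : U.left ⟶ S) (c : Z ⟶ U.left)
    [IsClosedImmersion c] [IsProper (c ≫ g)] (h : EtShriek.sectSupp F U s ⊆ Set.range c) :
    EtShriek.HasProperSupport F U s g := by
  refine ⟨Set.range c, h, c.isClosedEmbedding.isClosed_range, ?_⟩
  let Zc : TopologicalSpace.Closeds U.left := ⟨Set.range c, c.isClosedEmbedding.isClosed_range⟩
  let ι := (Scheme.IdealSheafData.vanishingIdeal Zc).subschemeι
  have hle : c.ker ≤ ι.ker := by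
    rw [Scheme.IdealSheafData.ker_subschemeι, ← Scheme.IdealSheafData.le_support_iff_le_vanishingIdeal]
    exact c.range_subset_ker_support
  have hl : IsClosedImmersion.lift c ι hle ≫ c = ι := IsClosedImmersion.lift_fac _ _ _
  haveI : IsClosedImmersion (IsClosedImmersion.lift c ι hle ≫ c) := hl.symm ▸ inferInstance
  haveI := IsClosedImmersion.of_comp_isClosedImmersion (IsClosedImmersion.lift c ι hle) c
  show IsProper (ι ≫ g)
  rw [← hl, Category.assoc]
  infer_instance

/-- The properties of proper supports that are used. -/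
def GoodSupp (s : EtCoh.sect F U) (g : U.left ⟶ S) : Prop :=
  ∃ Z : Set U.left, EtShriek.sectSupp F U s ⊆ Z ∧ (∀ C, IsClosed C → C ⊆ Z → IsClosed (g '' C)) ∧
    ∀ (Ω : Type u) [Field Ω] (y : Spec (CommRingCat.of Ω) ⟶ S),
      {q : Spec (CommRingCat.of Ω) ⟶ U.left | q ≫ g = y ∧ q default ∈ Z}.Finite

theorem goodSupp_zero (g : U.left ⟶ S) : GoodSupp F (0 : EtCoh.sect F U) g :=
  ⟨∅, (supp_zero F).subset, fun C _ h => by rw [Set.subset_empty_iff.1 h, Set.image_empty]; exact isClosed_empty,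
    fun Ω _ y => Set.Finite.subset Set.finite_empty fun q h => h.2⟩

theorem goodSupp_neg {s : EtCoh.sect F U} {g : U.left ⟶ S} (h : GoodSupp F s g) : GoodSupp F (-s) g := by
  obtain ⟨Z, h1, h2, h3⟩ := h
  exact ⟨Z, (supp_neg F s).trans h1, h2, h3⟩

theorem goodSupp_add {s t : EtCoh.sect F U} {g : U.left ⟶ S} (hs : GoodSupp F s g) (ht : GoodSupp F t g) :
    GoodSupp F (s + t) g := by
  obtain ⟨Z, h1, h2, h3⟩ := hs
  obtain ⟨Z', h1', h2', h3'⟩ := ht
  refine ⟨EtShriek.sectSupp F U s ∪ EtShriek.sectSupp F U t, supp_add F s t, fun C hC hCs => ?_, fun Ω _ y => ?_⟩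
  · rw [← Set.inter_eq_left.2 hCs, Set.inter_union_distrib_left, Set.image_union]
    exact (h2 _ (hC.inter (isClosed_supp F s)) (Set.inter_subset_right.trans h1)).union
      (h2' _ (hC.inter (isClosed_supp F t)) (Set.inter_subset_right.trans h1'))
  · refine ((h3 Ω y).union (h3' Ω y)).subset fun q hq => ?_
    exact hq.2.elim (fun h => Or.inl ⟨hq.1, h1 h⟩) (fun h => Or.inr ⟨hq.1, h1' h⟩)

/-- Finite schemes over a field have finitely many rational points. -/
theorem finite_sections {P : Scheme.{u}} {Ω : Type u} [Field Ω] (p : P ⟶ Spec (CommRingCat.of Ω)) [IsFinite p] :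
    Finite {s : Spec (CommRingCat.of Ω) ⟶ P // s ≫ p = 𝟙 _} := by
  haveI : IsAffine P := isAffine_of_isAffineHom p
  obtain ⟨φ, hφ⟩ : ∃ φ : CommRingCat.of Ω ⟶ Γ(P, ⊤), Spec.map φ = P.isoSpec.inv ≫ p := Spec.map_surjective _
  letI : Algebra Ω Γ(P, ⊤) := φ.hom.toAlgebra
  haveI : Module.Finite Ω Γ(P, ⊤) := (IsFinite.SpecMap_iff φ).1 (hφ ▸ inferInstance)
  have hh : ∀ s : {s : Spec (CommRingCat.of Ω) ⟶ P // s ≫ p = 𝟙 _},
      ∃ a : Γ(P, ⊤) →ₐ[Ω] Ω, Spec.map (CommRingCat.ofHom a.toRingHom) = s.1 ≫ P.isoSpec.hom := by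
    rintro ⟨s, hs⟩
    obtain ⟨a, ha⟩ : ∃ a : Γ(P, ⊤) ⟶ CommRingCat.of Ω, Spec.map a = s ≫ P.isoSpec.hom := Spec.map_surjective _
    have h1 : φ ≫ a = 𝟙 _ := Spec.map_injective (by rw [Spec.map_comp, ha, hφ, Category.assoc,
      Iso.hom_inv_id_assoc, hs, Spec.map_id])
    exact ⟨⟨a.hom, fun x => congr($(h1).hom x)⟩, ha⟩
  choose a ha using hh
  refine Finite.of_injective a fun s s' e => Subtype.ext ((cancel_mono P.isoSpec.hom).1 ?_)
  rw [← ha s, ← ha s', e]

theorem goodSupp_of_hasProperSupport {s : EtCoh.sect F U} {g : U.left ⟶ S} [LocallyQuasiFinite g]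
    (h : EtShriek.HasProperSupport F U s g) : GoodSupp F s g := by
  obtain ⟨Z, h1, hcl, hp⟩ := h
  let Zc : TopologicalSpace.Closeds U.left := ⟨Z, hcl⟩
  let ι := (Scheme.IdealSheafData.vanishingIdeal Zc).subschemeι
  have hr : Set.range ι = Z := by
    rw [Scheme.IdealSheafData.range_subschemeι, Scheme.IdealSheafData.coe_support_vanishingIdeal]
    rfl
  haveI : IsProper (ι ≫ g) := hp
  haveI : IsFinite (ι ≫ g) := IsFinite.of_isProper_of_locallyQuasiFinite _
  refine ⟨Z, h1, fun C hC hCZ => ?_, fun Ω _ y => ?_⟩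
  · have e : g '' C = (ι ≫ g) '' (ι ⁻¹' C) := by
      rw [Scheme.Hom.comp_base, TopCat.coe_comp, Set.image_comp, Set.image_preimage_eq_of_subset (hr.symm ▸ hCZ)]
    rw [e]
    exact (ι ≫ g).isClosedMap _ (hC.preimage ι.continuous)
  · haveI := finite_sections (pullback.snd (ι ≫ g) y)
    have key : ∀ q : {q : Spec (CommRingCat.of Ω) ⟶ U.left // q ≫ g = y ∧ q default ∈ Z},
        ∃ l, l ≫ ι = q.1 := by
      rintro ⟨q, hq, hqZ⟩
      have hle : ι.ker ≤ q.ker := by
        have hk : q.ker = Scheme.IdealSheafData.vanishingIdeal (.closure (q '' ((⊤ : TopologicalSpace.Closeds (Spec (CommRingCat.of Ω))) : Set (Spec (CommRingCat.of Ω))))) := by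
          rw [← Scheme.IdealSheafData.map_vanishingIdeal, Scheme.IdealSheafData.vanishingIdeal_top,
            Scheme.nilradical_eq_bot, Scheme.IdealSheafData.map_bot]
        rw [Scheme.IdealSheafData.ker_subschemeι, hk]
        refine Scheme.IdealSheafData.vanishingIdeal_antimono (TopologicalSpace.Closeds.closure_le.2 ?_)
        rintro - ⟨a, -, rfl⟩
        exact (Subsingleton.elim a default).symm ▸ hqZ
      exact ⟨IsClosedImmersion.lift ι q hle, IsClosedImmersion.lift_fac _ _ _⟩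
    choose l hl using key
    let σ : {q : Spec (CommRingCat.of Ω) ⟶ U.left // q ≫ g = y ∧ q default ∈ Z} →
        {s : Spec (CommRingCat.of Ω) ⟶ pullback (ι ≫ g) y // s ≫ pullback.snd (ι ≫ g) y = 𝟙 _} := fun q =>
      ⟨pullback.lift (l q) (𝟙 _) ((Category.assoc _ _ _).symm.trans
        ((congrArg (· ≫ g) (hl q)).trans (q.2.1.trans (Category.id_comp _).symm))), pullback.lift_snd _ _ _⟩
    have hσ : Function.Injective σ := fun q q' e => Subtype.ext (by
      have e' := congrArg (fun m => m.1 ≫ pullback.fst (ι ≫ g) y) e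
      rw [← hl q, ← hl q', (pullback.lift_fst _ _ _).symm.trans (e'.trans (pullback.lift_fst _ _ _))])
    exact Set.finite_coe_iff.1 (Finite.of_injective σ hσ)

end Groth.L27.Supp
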