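import Groth.Agent.L27.ExtZero.ToPush
import Groth.Agent.L27.ExtZero.Supp
import Mathlib.CategoryTheory.Sites.Point.Skyscraper

/-! # Extension by zero and sections with proper support -/

universe u

open CategoryTheory CategoryTheory.Limits AlgebraicGeometry Opposite

set_option backward.isDefEq.respectTransparency.types false
set_option linter.style.haveILetI false
set_option linter.unusedSectionVars false
set_option linter.unusedVariables false

namespace Groth.L27.ExtZero

variable {U X : Scheme.{u}} (j : U ⟶ X) [hj : Etale j] [IsSeparated j] (F : EtCoh.Ab U)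

theorem shriekPred_extSec (T : U.Etale) (s : F.obj.obj (op T)) :
    EtShriek.ShriekPred j F ((EtShriek.compEtale j).obj T) (extSec j F T s) := by
  intro V φ
  let f : V.left ⟶ T.left := φ.left
  haveI : Etale f := EtSite.etale_left φ
  haveI : Etale T.hom := T.prop
  let T' : U.Etale := Scheme.Etale.mk (f ≫ T.hom)
  have hh : (f ≫ T.hom) ≫ j = V.hom :=
    (Category.assoc _ _ _).trans (MorphismProperty.Over.w φ)
  let e : (EtShriek.compEtale j).obj T' ≅ V := MorphismProperty.Over.isoMk (Iso.refl V.left)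
    ((Category.id_comp _).trans hh.symm)
  let m : T' ⟶ T := MorphismProperty.Over.homMk f rfl
  have hm : (EtShriek.compEtale j).map m = e.hom ≫ φ :=
    MorphismProperty.Over.Hom.ext (Category.id_comp _).symm
  let E := (EtCoh.bc j).mapIso e
  let c : T'.left ⟶ ((EtCoh.bc j).obj V).left := (etaE j T').left ≫ E.hom.left
  haveI : IsIso E.hom.left :=
    ⟨E.inv.left, congrArg (fun z => z.left) E.hom_inv_id, congrArg (fun z => z.left) E.inv_hom_id⟩
  haveI : IsSeparated (LimCoh.fstB j ((EtShriek.compEtale j).obj T')) :=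
    MorphismProperty.pullback_fst _ _ inferInstance
  haveI : IsClosedImmersion ((etaE j T').left ≫ LimCoh.fstB j ((EtShriek.compEtale j).obj T')) := by
    rw [show (etaE j T').left ≫ LimCoh.fstB j ((EtShriek.compEtale j).obj T') = 𝟙 _ from LimCoh.lift_fstB j _ _]
    exact inferInstanceAs (IsClosedImmersion (𝟙 (T'.left : Scheme.{u})))
  haveI : IsClosedImmersion (etaE j T').left :=
    IsClosedImmersion.of_comp (etaE j T').left (LimCoh.fstB j ((EtShriek.compEtale j).obj T'))
  haveI : IsClosedImmersion c := MorphismProperty.comp_mem _ _ _ inferInstance inferInstance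
  have hc : c ≫ EtShriek.prV j V = 𝟙 _ := (Category.assoc _ _ _).trans
    ((congrArg ((etaE j T').left ≫ ·) (LimCoh.fstB_nat j e.hom)).trans ((Category.assoc _ _ _).symm.trans
      ((congrArg (· ≫ e.hom.left) (LimCoh.lift_fstB j _ _)).trans (Category.id_comp _))))
  haveI : IsProper (c ≫ EtShriek.prV j V) := by
    rw [hc]
    exact inferInstanceAs (IsProper (𝟙 (T'.left : Scheme.{u})))
  refine Supp.hasProperSupport_of_closedImmersion F _ (EtShriek.prV j V) c fun x hx => ?_
  by_contra hxc
  have hEl : E.inv.left ≫ E.hom.left = 𝟙 ((EtCoh.bc j).obj V).left := congrArg (fun z => z.left) E.inv_hom_id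
  have hx' : E.hom.left (E.inv.left x) = x :=
    (Scheme.Hom.comp_apply _ _ _).symm.trans
      (congrArg (fun k : ((EtCoh.bc j).obj V).left ⟶ ((EtCoh.bc j).obj V).left => k x) hEl)
  have hmem : E.inv.left x ∈ comp' j T' := fun ⟨t, ht⟩ => hxc ⟨t, by
    exact (Scheme.Hom.comp_apply _ _ _).trans ((congrArg E.hom.left ht).trans hx')⟩
  refine hx _ (compι j T' ≫ E.hom) ⟨⟨E.inv.left x, hmem⟩, ?_⟩ ?_
  · exact (Scheme.Hom.comp_apply _ _ _).trans hx'
  · rw [← Functor.map_comp_apply, ← op_comp, Category.assoc, show E.hom = (EtCoh.bc j).map e.hom from rfl,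
      ← Functor.map_comp, ← hm, op_comp, Functor.map_comp_apply, extSec_nat, extSec_comp]

variable [EtShriek.JCont j]

/-- Sections as sections with proper support. -/
noncomputable def shMapPre : F.obj ⟶ (EtShriek.compEtale j).op ⋙ EtShriek.lowerShriekPre j F where
  app T := AddCommGrpCat.ofHom (AddMonoidHom.mk' (fun s =>
      (⟨extSec j F T.unop s, AddSubgroup.subset_closure (shriekPred_extSec j F T.unop s)⟩ :
        EtShriek.shriekSubgroup j F ((EtShriek.compEtale j).obj T.unop)))
    (fun s s' => Subtype.ext (extSec_add j F T.unop s s')))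
  naturality T T' m := AddCommGrpCat.hom_ext (AddMonoidHom.ext fun s =>
    Subtype.ext (extSec_nat j F m.unop s).symm)

/-- The transpose of the map to sections with proper support. -/
noncomputable def shMap : F ⟶ (EtShriek.restrAlong j).obj ((EtShriek.lowerShriek j).obj F) :=
  ⟨shMapPre j F ≫ Functor.whiskerLeft (EtShriek.compEtale j).op
    (toSheafify X.smallEtaleTopology (EtShriek.lowerShriekPre j F))⟩

theorem shMapPre_nat {F G : EtCoh.Ab U} (α : F ⟶ G) :
    α.hom ≫ shMapPre j G = shMapPre j F ≫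
      Functor.whiskerLeft (EtShriek.compEtale j).op ((EtShriek.lowerShriekPreFunctor j).map α) :=
  NatTrans.ext (funext fun T => AddCommGrpCat.hom_ext (AddMonoidHom.ext fun s =>
    Subtype.ext (extSec_app j α T.unop s).symm))

theorem shMap_nat {F G : EtCoh.Ab U} (α : F ⟶ G) :
    α ≫ shMap j G = shMap j F ≫ (EtShriek.restrAlong j).map ((EtShriek.lowerShriek j).map α) := by
  refine ObjectProperty.hom_ext _ ?_
  show α.hom ≫ shMapPre j G ≫ Functor.whiskerLeft (EtShriek.compEtale j).op (toSheafify X.smallEtaleTopology _) =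
    (shMapPre j F ≫ Functor.whiskerLeft (EtShriek.compEtale j).op (toSheafify X.smallEtaleTopology _)) ≫
      Functor.whiskerLeft (EtShriek.compEtale j).op
        (sheafifyMap X.smallEtaleTopology ((EtShriek.lowerShriekPreFunctor j).map α))
  refine (Category.assoc _ _ _).symm.trans ((congrArg (· ≫ _) (shMapPre_nat j α)).trans ?_)
  refine (Category.assoc _ _ _).trans (Eq.trans ?_ (Category.assoc _ _ _).symm)
  refine congrArg (shMapPre j F ≫ ·) ?_
  exact (Functor.whiskerLeft_comp _ _ _).symm.trans ((congrArg _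
    (toSheafify_naturality X.smallEtaleTopology ((EtShriek.lowerShriekPreFunctor j).map α))).trans
      (Functor.whiskerLeft_comp _ _ _))

/-- The comparison from the extension by zero to the direct image with proper support. -/
noncomputable def toShriek : EtShriek.extZero j ⟶ EtShriek.lowerShriek j where
  app F := ((EtShriek.extZeroAdj j).homEquiv F _).symm (shMap j F)
  naturality F G α := by
    rw [← Adjunction.homEquiv_naturality_left_symm, ← Adjunction.homEquiv_naturality_right_symm, shMap_nat]

theorem toSheafify_lowerShriekToPush :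
    toSheafify X.smallEtaleTopology (EtShriek.lowerShriekPre j F) ≫ (EtShriek.lowerShriekToPush j F).hom =
      EtShriek.lowerShriekPreι j F := by
  have h : (sheafificationAdjunction X.smallEtaleTopology AddCommGrpCat.{u + 1}).homEquiv _ _
      (EtShriek.lowerShriekToPush j F) = EtShriek.lowerShriekPreι j F := Equiv.apply_symm_apply _ _
  exact ((Adjunction.homEquiv_unit _ _ _ _).symm.trans h)

theorem toShriek_comp : (toShriek j).app F ≫ EtShriek.lowerShriekToPush j F = (toPush j).app F := by
  refine (Adjunction.homEquiv_naturality_right_symm _ _ _).symm.trans (congrArg _ ?_)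
  refine ObjectProperty.hom_ext _ (NatTrans.ext (funext fun T => ?_))
  refine (Category.assoc _ _ _).trans ((congrArg ((shMapPre j F).app T ≫ ·)
    (NatTrans.congr_app (toSheafify_lowerShriekToPush j F) (op ((EtShriek.compEtale j).obj T.unop)))).trans ?_)
  rfl

variable {Ω : Type u} [Field Ω] [IsSepClosed Ω] (ξ : Spec (CommRingCat.of Ω) ⟶ X)

/-- The geometric point of a base change over a lift. -/
noncomputable def qOf (v : PtLift j ξ) (V : X.Etale) (y : (Scheme.pointSmallEtale ξ).fiber.obj V) :
    (Scheme.pointSmallEtale v.1).fiber.obj ((EtCoh.bc j).obj V) :=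
  Over.homMk (pullback.lift y.left v.1 ((Over.w y).trans v.2.symm)) (pullback.lift_snd _ _ _)

theorem qOf_fst (v : PtLift j ξ) (V : X.Etale) (y : (Scheme.pointSmallEtale ξ).fiber.obj V) :
    (qOf j ξ v V y).left ≫ EtShriek.prV j V = y.left :=
  pullback.lift_fst _ _ _

/-- The fibre of the presheaf of sections with proper support mapped to the stalk of the direct image. -/
noncomputable abbrev iotaSt : (Scheme.pointSmallEtale ξ).presheafFiber.obj (EtShriek.lowerShriekPre j F) ⟶
    (EtCoh.stalk ξ).obj ((EtCoh.push j).obj F) :=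
  (Scheme.pointSmallEtale ξ).presheafFiber.map (EtShriek.lowerShriekPreι j F)

theorem retr_iotaSt (v : PtLift j ξ) (V : X.Etale) (y : (Scheme.pointSmallEtale ξ).fiber.obj V)
    (t : EtShriek.shriekSubgroup j F V) :
    retr j F ξ v (iotaSt j F ξ ((Scheme.pointSmallEtale ξ).toPresheafFiber V y (EtShriek.lowerShriekPre j F) t)) =
      (Scheme.pointSmallEtale v.1).toPresheafFiber ((EtCoh.bc j).obj V) (qOf j ξ v V y) F.obj t.1 := by
  refine (congrArg (retr j F ξ v) (GrothendieckTopology.Point.toPresheafFiber_naturality_apply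
    (Φ := Scheme.pointSmallEtale ξ) (EtShriek.lowerShriekPreι j F) V y t)).trans ?_
  exact ConcreteCategory.congr_hom (GrothendieckTopology.Point.toPresheafFiber_presheafFiberDesc
    (Scheme.pointSmallEtale ξ) (P := ((EtCoh.push j).obj F).obj) _ _ V y) t.1

theorem goodSupp_of_mem {V : X.Etale} (t : EtShriek.shriekSubgroup j F V) :
    Supp.GoodSupp F (U := (EtCoh.bc j).obj V) t.1 (EtShriek.prV j V) := by
  haveI : Etale (EtShriek.prV j V) := MorphismProperty.pullback_fst _ _ hj
  refine AddSubgroup.closure_induction (p := fun x _ => Supp.GoodSupp F (U := (EtCoh.bc j).obj V) x (EtShriek.prV j V))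
    (fun x hx => ?_) (Supp.goodSupp_zero F _) (fun _ _ _ _ => Supp.goodSupp_add F) (fun _ _ => Supp.goodSupp_neg F) t.2
  refine Supp.goodSupp_of_hasProperSupport F ?_
  have h := hx V (𝟙 V)
  rwa [CategoryTheory.Functor.map_id, op_id, CategoryTheory.Functor.map_id, ConcreteCategory.id_apply] at h

/-- A germ vanishing at every lift vanishes. -/
theorem eq_zero_of_retr (p : ((Scheme.pointSmallEtale ξ).presheafFiber (A := AddCommGrpCat.{u + 1})).obj (EtShriek.lowerShriekPre j F))
    (h : ∀ v, retr j F ξ v (iotaSt j F ξ p) = 0) : p = 0 := by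
  obtain ⟨V, y, t, rfl⟩ := (Scheme.pointSmallEtale ξ).toPresheafFiber_jointly_surjective p
  obtain ⟨Z, hZ, hcl, -⟩ := goodSupp_of_mem j F t
  let C := EtShriek.sectSupp F ((EtCoh.bc j).obj V) t.1
  let O : V.left.Opens := ⟨(EtShriek.prV j V '' C)ᶜ, (hcl C (Supp.isClosed_supp F _) hZ).isOpen_compl⟩
  have hy : y.left (default : Spec (CommRingCat.of Ω)) ∈ O := by
    rintro ⟨x, hx, hxy⟩
    haveI : Etale (EtShriek.prV j V) := MorphismProperty.pullback_fst _ _ hj
    obtain ⟨q, hq⟩ := EtSite.exists_fiber (X := V.left) y.left (Scheme.Etale.mk (EtShriek.prV j V)) x hxy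
    have hq' : q.left ≫ EtShriek.prV j V = y.left := Over.w q
    let v : PtLift j ξ := ⟨q.left ≫ pullback.snd V.hom j, (Category.assoc _ _ _).trans
      ((congrArg (q.left ≫ ·) pullback.condition.symm).trans
        ((Category.assoc _ _ _).symm.trans ((congrArg (· ≫ V.hom) hq').trans (Over.w y))))⟩
    have hqv : (qOf j ξ v V y).left = q.left := pullback.hom_ext
      ((pullback.lift_fst _ _ _).trans hq'.symm) (pullback.lift_snd _ _ _)
    have h0 := h v
    rw [retr_iotaSt] at h0
    obtain ⟨W, g, w, hw, hz⟩ := ((Scheme.pointSmallEtale v.1).toPresheafFiber_eq_iff' _ _ t.1 0).1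
      (h0.trans (map_zero _).symm)
    refine hx W g ⟨w.left (default : Spec (CommRingCat.of Ω)), ?_⟩ (hz.trans (map_zero _))
    rw [← hq, ← hqv, ← hw]
    rfl
  haveI : Etale V.hom := V.prop
  let W : X.Etale := Scheme.Etale.mk (O.ι ≫ V.hom)
  let g : W ⟶ V := MorphismProperty.Over.homMk O.ι rfl
  let yl : Spec (CommRingCat.of Ω) ⟶ V.left := y.left
  have hr : Set.range yl ⊆ Set.range O.ι := by
    rw [Scheme.Opens.range_ι]
    rintro - ⟨a, rfl⟩
    exact (Subsingleton.elim (default : Spec (CommRingCat.of Ω)) a) ▸ hy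
  let l := opLift O yl hr
  have hl : l ≫ O.ι = y.left := opLift_fac O yl hr
  let w : (Scheme.pointSmallEtale ξ).fiber.obj W :=
    Over.homMk l ((Category.assoc _ _ _).symm.trans ((congrArg (· ≫ V.hom) hl).trans (Over.w y)))
  have hw : (Scheme.pointSmallEtale ξ).fiber.map g w = y := Over.OverMorphism.ext hl
  have hz : (EtShriek.lowerShriekPre j F).map g.op t = 0 := by
    refine Subtype.ext (Supp.eq_zero_of_supp F _ fun x hx => ?_)
    have h1 : ((EtCoh.bc j).map g).left x ∈ C := Supp.supp_map F _ _ hx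
    have h2 : EtShriek.prV j V (((EtCoh.bc j).map g).left x) = O.ι (EtShriek.prV j W x) :=
      (Scheme.Hom.comp_apply _ _ _).symm.trans ((congr($(LimCoh.fstB_nat j g) x)).trans (Scheme.Hom.comp_apply _ _ _))
    exact (EtShriek.prV j W x).2 ⟨_, h1, h2⟩
  rw [← hw, ← GrothendieckTopology.Point.toPresheafFiber_w_apply, hz, map_zero]

theorem retr_comp_ι (v w : PtLift j ξ) :
    (w ≠ v → Sigma.ι (stalks j ξ F) w ≫ stalkMap' j F ξ ≫ retr j F ξ v = 0) ∧
      (∀ e : w = v, Sigma.ι (stalks j ξ F) w ≫ stalkMap' j F ξ ≫ retr j F ξ v = eqToHom (by rw [e])) := by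
  refine ⟨fun hne => ?_, fun e => ?_⟩
  · refine (Scheme.pointSmallEtale w.1).presheafFiber_hom_ext fun T z => ?_
    refine ConcreteCategory.hom_ext _ _ fun s => ?_
    exact ((congrArg (retr j F ξ v) (stalkMap'_germ j F ξ w T z s)).trans
      ((retr_germ j F ξ v w T z s).1 hne)).trans rfl
  · subst e
    refine (Scheme.pointSmallEtale w.1).presheafFiber_hom_ext fun T z => ?_
    refine ConcreteCategory.hom_ext _ _ fun s => ?_
    exact (congrArg (retr j F ξ w) (stalkMap'_germ j F ξ w T z s)).trans ((retr_germ j F ξ w w T z s).2 rfl)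

theorem exists_of_notMem_supp {Y : Scheme.{u}} (G : EtCoh.Ab Y) {W : Y.Etale} (s : EtCoh.sect G W) (x : W.left)
    (h : x ∉ EtShriek.sectSupp G W s) :
    ∃ (W' : Y.Etale) (g : W' ⟶ W) (w : W'.left), g.left w = x ∧ G.obj.map g.op s = 0 := by
  by_contra hc
  exact h fun W' g ⟨w, hw⟩ h0 => hc ⟨W', g, w, hw, h0⟩

theorem exists_retr_eq (p : ((Scheme.pointSmallEtale ξ).presheafFiber (A := AddCommGrpCat.{u + 1})).obj (EtShriek.lowerShriekPre j F)) :
    ∃ x, ∀ v, retr j F ξ v (stalkMap' j F ξ x) = retr j F ξ v (iotaSt j F ξ p) := by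
  classical
  obtain ⟨V, y, t, rfl⟩ := (Scheme.pointSmallEtale ξ).toPresheafFiber_jointly_surjective p
  obtain ⟨Z, hZ, -, hfin⟩ := goodSupp_of_mem j F t
  let A := {v : PtLift j ξ | (qOf j ξ v V y).left (default : Spec (CommRingCat.of Ω)) ∈ Z}
  let qq : PtLift j ξ → (Spec (CommRingCat.of Ω) ⟶ ((EtCoh.bc j).obj V).left) := fun v => (qOf j ξ v V y).left
  have hA : A.Finite := by
    have hsub : qq '' A ⊆ {q | q ≫ EtShriek.prV j V = (y.left : Spec (CommRingCat.of Ω) ⟶ V.left) ∧
        q (default : Spec (CommRingCat.of Ω)) ∈ Z} := by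
      rintro - ⟨v, hv, rfl⟩
      exact ⟨qOf_fst j ξ v V y, hv⟩
    exact Set.Finite.of_finite_image ((hfin Ω y.left).subset hsub)
      (fun v _ v' _ e => Subtype.ext ((pullback.lift_snd _ _ _).symm.trans
        ((congrArg (· ≫ pullback.snd V.hom j) e).trans (pullback.lift_snd _ _ _))))
  let a := fun v => retr j F ξ v (iotaSt j F ξ
    ((Scheme.pointSmallEtale ξ).toPresheafFiber V y (EtShriek.lowerShriekPre j F) t))
  refine ⟨∑ w ∈ hA.toFinset, Sigma.ι (stalks j ξ F) w (a w), fun v => ?_⟩
  rw [map_sum, map_sum]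
  have hne : ∀ w, w ≠ v → retr j F ξ v (stalkMap' j F ξ (Sigma.ι (stalks j ξ F) w (a w))) = 0 := fun w hw =>
    ConcreteCategory.congr_hom ((retr_comp_ι j F ξ v w).1 hw) (a w)
  rw [Finset.sum_eq_single v (fun w _ hw => hne w hw) (fun hv => ?_)]
  · show retr j F ξ v (stalkMap' j F ξ (Sigma.ι (stalks j ξ F) v (a v))) = a v
    exact ConcreteCategory.congr_hom ((retr_comp_ι j F ξ v v).2 rfl) (a v)
  · rw [hA.mem_toFinset] at hv
    have hs : (qOf j ξ v V y).left (default : Spec (CommRingCat.of Ω)) ∉ EtShriek.sectSupp F ((EtCoh.bc j).obj V) t.1 := fun hs => hv (hZ hs)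
    obtain ⟨W, g, w, hw, hz⟩ := exists_of_notMem_supp F _ _ hs
    haveI := EtSite.etale_left g
    obtain ⟨q, -⟩ := EtSite.exists_fiber (X := ((EtCoh.bc j).obj V).left) (qOf j ξ v V y).left
      (Scheme.Etale.mk g.left) w hw
    have hq : q.left ≫ g.left = (qOf j ξ v V y).left := Over.w q
    let w' : (Scheme.pointSmallEtale v.1).fiber.obj W := Over.homMk q.left
      ((congrArg (q.left ≫ ·) (MorphismProperty.Over.w g).symm).trans
        ((Category.assoc _ _ _).symm.trans ((congrArg (· ≫ _) hq).trans (Over.w (qOf j ξ v V y)))))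
    have ha : a v = 0 := by
      refine (retr_iotaSt j F ξ v V y t).trans ?_
      rw [← show (Scheme.pointSmallEtale v.1).fiber.map g w' = qOf j ξ v V y from Over.OverMorphism.ext hq,
        ← GrothendieckTopology.Point.toPresheafFiber_w_apply, hz, map_zero]
      rfl
    rw [ha, map_zero, map_zero, map_zero]

theorem isIso_toShriek : IsIso ((toShriek j).app F) := by
  haveI : Mono ((toShriek j).app F ≫ EtShriek.lowerShriekToPush j F) :=
    (toShriek_comp j F).symm ▸ mono_toPush j F
  haveI hm : Mono ((toShriek j).app F) := mono_of_mono _ (EtShriek.lowerShriekToPush j F)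
  haveI : Epi ((toShriek j).app F) := by
    refine (EtSite.epi_iff_stalks _).2 fun Ω _ _ ξ e => ?_
    let P := EtShriek.lowerShriekPre j F
    let η := (Scheme.pointSmallEtale ξ).presheafFiber.map (toSheafify X.smallEtaleTopology P)
    haveI : IsIso η := inferInstance
    have hsurj : Function.Surjective η := ((ConcreteCategory.isIso_iff_bijective η).1 inferInstance).2
    have hι : ∀ p, (EtCoh.stalk ξ).map (EtShriek.lowerShriekToPush j F) (η p) = iotaSt j F ξ p := fun p =>
      ConcreteCategory.congr_hom (((Scheme.pointSmallEtale ξ).presheafFiber.map_comp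
        (toSheafify X.smallEtaleTopology P) (EtShriek.lowerShriekToPush j F).hom).symm.trans
        (congrArg _ (toSheafify_lowerShriekToPush j F))) p
    obtain ⟨p, rfl⟩ := hsurj e
    obtain ⟨x, hx⟩ := exists_retr_eq j F ξ p
    refine ⟨(stalkIso j ξ F).inv x, ?_⟩
    obtain ⟨p', hp'⟩ := hsurj ((EtCoh.stalk ξ).map ((toShriek j).app F) ((stalkIso j ξ F).inv x))
    have hp : iotaSt j F ξ p' = stalkMap' j F ξ x := by
      refine (hι p').symm.trans ((congrArg _ hp').trans ?_)
      exact ConcreteCategory.congr_hom (((EtCoh.stalk ξ).map_comp _ _).symm.trans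
        (congrArg (EtCoh.stalk ξ).map (toShriek_comp j F))) _
    have h0 : p' - p = 0 := eq_zero_of_retr j F ξ _ fun v => by
      rw [map_sub, map_sub, hp, hx, sub_self]
    exact hp'.symm.trans (congrArg η (sub_eq_zero.1 h0))
  exact isIso_of_mono_of_epi _

/-- Extension by zero is direct image with proper support. -/
noncomputable def shriekIso : EtShriek.extZero j ≅ EtShriek.lowerShriek j :=
  haveI : ∀ F, IsIso ((toShriek j).app F) := fun F => isIso_toShriek j F
  haveI := NatIso.isIso_of_isIso_app (toShriek j)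
  asIso (toShriek j)

end Groth.L27.ExtZero
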