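import Groth.Agent.L27.ExtZero.ShriekSheaf

/-! # Composition of direct images with proper support -/

universe u

open CategoryTheory CategoryTheory.Limits AlgebraicGeometry Opposite

set_option backward.isDefEq.respectTransparency.types false
set_option linter.style.haveILetI false
set_option linter.unusedSectionVars false
set_option linter.unusedVariables false

namespace Groth.L27.Supp

section Schemes

variable {U T S : Scheme.{u}} (p : U ⟶ T) (q : T ⟶ S) [LocallyOfFiniteType p] [LocallyOfFiniteType q] [IsSeparated q]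

theorem isProperOver_left {C : Set U} (h : ClSub.IsProperOver (p ≫ q) C) : ClSub.IsProperOver p C := by
  obtain ⟨hC, hp⟩ := h
  let ι := (Scheme.IdealSheafData.vanishingIdeal ⟨C, hC⟩).subschemeι
  haveI hpr : IsProper ((ι ≫ p) ≫ q) := by rw [Category.assoc]; exact hp
  haveI : IsSeparated (ι ≫ p) := IsSeparated.of_comp (ι ≫ p) q
  haveI : UniversallyClosed (ι ≫ p) :=
    MorphismProperty.of_postcomp (W := @UniversallyClosed) (W' := @IsSeparated) (ι ≫ p) q inferInstance
      hpr.toUniversallyClosed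
  refine ⟨hC, ?_⟩
  show IsProper (ι ≫ p)
  exact {}

theorem isClosed_image {C : Set U} (h : ClSub.IsProperOver p C) : IsClosed (p '' C) := by
  obtain ⟨hC, hp⟩ := h
  let ι := (Scheme.IdealSheafData.vanishingIdeal ⟨C, hC⟩).subschemeι
  haveI : IsProper (ι ≫ p) := hp
  have e : p '' C = (ι ≫ p) '' Set.univ := by
    rw [Set.image_univ, Scheme.Hom.comp_base, TopCat.coe_comp, Set.range_comp, range_subscheme C hC]
  rw [e]
  exact (ι ≫ p).isClosedMap _ isClosed_univ

theorem isProperOver_comp_iff {C : Set U} :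
    ClSub.IsProperOver (p ≫ q) C ↔ ClSub.IsProperOver p C ∧ ClSub.IsProperOver q (p '' C) := by
  constructor
  · intro h
    have hp := isProperOver_left p q h
    refine ⟨hp, ?_⟩
    have hD := isClosed_image p hp
    obtain ⟨hC, hpq⟩ := h
    let ι := (Scheme.IdealSheafData.vanishingIdeal ⟨C, hC⟩).subschemeι
    let ιD := (Scheme.IdealSheafData.vanishingIdeal ⟨p '' C, hD⟩).subschemeι
    have hle : ιD.ker ≤ (ι ≫ p).ker := by
      rw [← Scheme.IdealSheafData.map_ker, Scheme.IdealSheafData.ker_subschemeι,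
        Scheme.IdealSheafData.ker_subschemeι, Scheme.IdealSheafData.map_vanishingIdeal]
      exact Scheme.IdealSheafData.vanishingIdeal_antimono (TopologicalSpace.Closeds.closure_le.2 subset_rfl)
    let l := IsClosedImmersion.lift ιD (ι ≫ p) hle
    have hl : l ≫ ιD = ι ≫ p := IsClosedImmersion.lift_fac _ _ _
    haveI : Surjective l := ⟨fun x => by
      obtain ⟨c, hc, hcx⟩ := (range_subscheme _ hD).subset ⟨x, rfl⟩
      obtain ⟨c', rfl⟩ := (range_subscheme C hC).symm.subset hc
      refine ⟨c', ιD.isClosedEmbedding.injective ?_⟩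
      refine ((Scheme.Hom.comp_apply _ _ _).symm.trans congr($hl c')).trans ?_
      exact (Scheme.Hom.comp_apply _ _ _).trans hcx⟩
    haveI : IsProper (ι ≫ p ≫ q) := hpq
    haveI : UniversallyClosed (l ≫ ιD ≫ q) := by
      rw [← Category.assoc, hl, Category.assoc]
      infer_instance
    haveI : UniversallyClosed (ιD ≫ q) := UniversallyClosed.of_comp_surjective l _
    refine ⟨hD, ?_⟩
    show IsProper (ιD ≫ q)
    exact {}
  · rintro ⟨⟨hC, hp⟩, hD, hq⟩
    let ι := (Scheme.IdealSheafData.vanishingIdeal ⟨C, hC⟩).subschemeι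
    let ιD := (Scheme.IdealSheafData.vanishingIdeal ⟨p '' C, hD⟩).subschemeι
    have hle : ιD.ker ≤ (ι ≫ p).ker := by
      rw [← Scheme.IdealSheafData.map_ker, Scheme.IdealSheafData.ker_subschemeι,
        Scheme.IdealSheafData.ker_subschemeι, Scheme.IdealSheafData.map_vanishingIdeal]
      exact Scheme.IdealSheafData.vanishingIdeal_antimono (TopologicalSpace.Closeds.closure_le.2 subset_rfl)
    let l := IsClosedImmersion.lift ιD (ι ≫ p) hle
    have hl : l ≫ ιD = ι ≫ p := IsClosedImmersion.lift_fac _ _ _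
    haveI hip : IsProper (l ≫ ιD) := by rw [hl]; exact hp
    haveI : IsProper (ιD ≫ q) := hq
    haveI : UniversallyClosed l :=
      MorphismProperty.of_postcomp (W := @UniversallyClosed) (W' := @IsSeparated) l ιD inferInstance
        hip.toUniversallyClosed
    haveI : IsSeparated l := IsSeparated.of_comp l ιD
    haveI : LocallyOfFiniteType l := locallyOfFiniteType_of_comp l ιD
    haveI : IsProper l := {}
    refine ⟨hC, ?_⟩
    show IsProper (ι ≫ p ≫ q)
    rw [← Category.assoc, ← hl, Category.assoc]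
    infer_instance

end Schemes

variable {X Y Z : Scheme.{u}} (h : X ⟶ Y) (g : Y ⟶ Z) [LocallyOfFiniteType h]

/-- The functor of sections with proper support, valued in sheaves. -/
noncomputable def shriekFunctor : EtCoh.Ab X ⥤ EtCoh.Ab Y :=
  ObjectProperty.lift _ (EtShriek.lowerShriekPreFunctor h) (fun F => isSheaf_lowerShriekPre h F)

/-- Sheafification changes nothing. -/
noncomputable def shriekFunctorIso : shriekFunctor h ≅ EtShriek.lowerShriek h :=
  NatIso.ofComponents
    (fun F =>
      (fullyFaithfulSheafToPresheaf _ _).preimageIso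
        (@asIso _ _ _ _ (toSheafify Y.smallEtaleTopology (EtShriek.lowerShriekPre h F)) (isIso_toSheafify_shriek h F)))
    (fun {F G} α => ObjectProperty.hom_ext _ (toSheafify_naturality Y.smallEtaleTopology
      ((EtShriek.lowerShriekPreFunctor h).map α)))

theorem toSheafify_comp_lowerShriekToPush (F : EtCoh.Ab X) :
    toSheafify Y.smallEtaleTopology (EtShriek.lowerShriekPre h F) ≫ (EtShriek.lowerShriekToPush h F).hom =
      EtShriek.lowerShriekPreι h F := by
  have e : (sheafificationAdjunction Y.smallEtaleTopology AddCommGrpCat.{u + 1}).homEquiv _ _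
      (EtShriek.lowerShriekToPush h F) = EtShriek.lowerShriekPreι h F := Equiv.apply_symm_apply _ _
  exact ((Adjunction.homEquiv_unit _ _ _ _).symm.trans e)

theorem mono_lowerShriekToPush (F : EtCoh.Ab X) : Mono (EtShriek.lowerShriekToPush h F) := by
  haveI := isIso_toSheafify_shriek h F
  haveI : Mono (EtShriek.lowerShriekPreι h F) := by
    haveI : ∀ V, Mono ((EtShriek.lowerShriekPreι h F).app V) := fun V =>
      (AddCommGrpCat.mono_iff_injective _).2 Subtype.val_injective
    exact NatTrans.mono_of_mono_app _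
  refine (sheafToPresheaf _ _).mono_of_mono_map ?_
  show Mono (EtShriek.lowerShriekToPush h F).hom
  rw [(IsIso.eq_inv_comp _).2 (toSheafify_comp_lowerShriekToPush h F)]
  exact @mono_comp _ _ _ _ _ _ (@IsIso.mono_of_iso _ _ _ _ _
    (@IsIso.inv_isIso _ _ _ _ _ (isIso_toSheafify_shriek h F))) _ inferInstance

/-- The support of a section of the direct image with proper support. -/
theorem supp_shriekFunctor (F : EtCoh.Ab X) {V : Y.Etale} (t : EtShriek.shriekSubgroup h F V) :
    EtShriek.sectSupp ((shriekFunctor h).obj F) V t =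
      EtShriek.prV h V '' EtShriek.sectSupp F ((EtCoh.bc h).obj V) t.1 := by
  haveI := locallyOfFiniteType_prV h V
  have hp : IsProperSect h F t.1 := (mem_shriekSubgroup_iff h F t.1).1 t.2
  have hcl := isClosed_image _ hp
  refine Set.Subset.antisymm (fun y hy => by_contra fun hyC => ?_) ?_
  · let O : V.left.Opens := ⟨_, hcl.isOpen_compl⟩
    haveI : Etale V.hom := V.prop
    let W : Y.Etale := Scheme.Etale.mk (O.ι ≫ V.hom)
    let k : W ⟶ V := MorphismProperty.Over.homMk O.ι rfl
    refine hy W k ⟨⟨y, hyC⟩, rfl⟩ (Subtype.ext (eq_zero_of_supp F _ fun x hx => ?_))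
    have h1 := (supp_map F ((EtCoh.bc h).map k) t.1) hx
    have h2 : EtShriek.prV h V (((EtCoh.bc h).map k).left x) = O.ι (EtShriek.prV h W x) :=
      (Scheme.Hom.comp_apply _ _ _).symm.trans
        ((congr($((EtCoh.isPullback_bc_map h k).w) x)).trans (Scheme.Hom.comp_apply _ _ _))
    exact (EtShriek.prV h W x).2 ⟨_, h1, h2⟩
  · rintro - ⟨x, hx, rfl⟩ W k ⟨w, hw⟩ h0
    have sq := EtCoh.isPullback_bc_map h k
    obtain ⟨p, hp1, -⟩ := Scheme.Pullback.exists_preimage_pullback (f := EtShriek.prV h V) (g := k.left) x w hw.symm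
    have hp2 : ((EtCoh.bc h).map k).left (sq.isoPullback.inv p) = x :=
      ((Scheme.Hom.comp_apply _ _ _).symm.trans congr($(sq.isoPullback_inv_fst) p)).trans hp1
    have h1 : sq.isoPullback.inv p ∈ EtShriek.sectSupp F _ (F.obj.map ((EtCoh.bc h).map k).op t.1) := by
      rw [supp_map_eq]
      show ((EtCoh.bc h).map k).left (sq.isoPullback.inv p) ∈ EtShriek.sectSupp F ((EtCoh.bc h).obj V) t.1
      rw [hp2]
      exact hx
    rw [show F.obj.map ((EtCoh.bc h).map k).op t.1 = 0 from congrArg Subtype.val h0, supp_zero] at h1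
    exact h1

/-- The comparison of the base changes. -/
noncomputable abbrev cmp (V : Z.Etale) :
    (EtCoh.bc h).obj ((EtCoh.bc g).obj V) ⟶ (EtCoh.bc (h ≫ g)).obj V :=
  (MorphismProperty.Over.pullbackComp (P := EtCoh.etaleMP) (Q := ⊤) h g).symm.hom.app V

instance (V : Z.Etale) : IsIso (cmp h g V) :=
  ((MorphismProperty.Over.pullbackComp (P := EtCoh.etaleMP) (Q := ⊤) h g).symm.app V).isIso_hom

theorem cmp_fst (V : Z.Etale) :
    (cmp h g V).left ≫ EtShriek.prV (h ≫ g) V = EtShriek.prV h ((EtCoh.bc g).obj V) ≫ EtShriek.prV g V := by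
  simp [cmp, EtShriek.prV]
  exact pullbackLeftPullbackSndIso_hom_fst V.hom g h

variable [LocallyOfFiniteType g] [IsSeparated g] (F : EtCoh.Ab X)

theorem isProperSect_comp_iff {V : Z.Etale} (s : EtCoh.sect F ((EtCoh.bc (h ≫ g)).obj V)) :
    IsProperSect (h ≫ g) F s ↔
      IsProperSect h F (F.obj.map (cmp h g V).op s) ∧ ClSub.IsProperOver (EtShriek.prV g V)
        (EtShriek.prV h ((EtCoh.bc g).obj V) '' EtShriek.sectSupp F _ (F.obj.map (cmp h g V).op s)) := by
  haveI := locallyOfFiniteType_prV h ((EtCoh.bc g).obj V)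
  haveI := locallyOfFiniteType_prV g V
  haveI : IsSeparated (EtShriek.prV g V) := MorphismProperty.pullback_fst _ _ inferInstance
  rw [← isProperOver_comp_iff, supp_map_eq]
  haveI : IsIso (cmp h g V).left := ⟨(inv (cmp h g V)).left, congrArg (fun z => z.left) (IsIso.hom_inv_id (cmp h g V)),
    congrArg (fun z => z.left) (IsIso.inv_hom_id (cmp h g V))⟩
  have sq : IsPullback (cmp h g V).left (EtShriek.prV h ((EtCoh.bc g).obj V) ≫ EtShriek.prV g V)
      (EtShriek.prV (h ≫ g) V) (𝟙 V.left) :=
    IsPullback.of_horiz_isIso ⟨(cmp_fst h g V).trans (Category.comp_id _).symm⟩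
  have sq' : IsPullback (inv (cmp h g V).left) (EtShriek.prV (h ≫ g) V)
      (EtShriek.prV h ((EtCoh.bc g).obj V) ≫ EtShriek.prV g V) (𝟙 V.left) :=
    IsPullback.of_horiz_isIso ⟨by rw [← cmp_fst, IsIso.inv_hom_id_assoc, Category.comp_id]⟩
  refine ⟨fun hs => isProperOver_preimage sq hs, fun hs => ?_⟩
  have hs' := isProperOver_preimage sq' hs
  rw [← Set.preimage_comp, ← TopCat.coe_comp, ← Scheme.Hom.comp_base, IsIso.inv_hom_id] at hs'
  exact hs'

theorem cmp_mem {V : Z.Etale} (s : EtShriek.shriekSubgroup (h ≫ g) F V) :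
    F.obj.map (cmp h g V).op s.1 ∈ EtShriek.shriekSubgroup h F ((EtCoh.bc g).obj V) :=
  (mem_shriekSubgroup_iff h F _).2 ((isProperSect_comp_iff h g F s.1).1 ((mem_shriekSubgroup_iff _ F _).1 s.2)).1

theorem cmp_mem_outer {V : Z.Etale} (s : EtShriek.shriekSubgroup (h ≫ g) F V) :
    (⟨_, cmp_mem h g F s⟩ : EtShriek.shriekSubgroup h F ((EtCoh.bc g).obj V)) ∈
      EtShriek.shriekSubgroup g ((shriekFunctor h).obj F) V := by
  refine (mem_shriekSubgroup_iff g ((shriekFunctor h).obj F) _).2 ?_
  show ClSub.IsProperOver _ _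
  rw [supp_shriekFunctor]
  exact ((isProperSect_comp_iff h g F s.1).1 ((mem_shriekSubgroup_iff _ F _).1 s.2)).2

theorem cmp_nat {V V' : Z.Etale} (φ : V' ⟶ V) (s : EtCoh.sect F ((EtCoh.bc (h ≫ g)).obj V)) :
    F.obj.map ((EtCoh.bc h).map ((EtCoh.bc g).map φ)).op (F.obj.map (cmp h g V).op s) =
      F.obj.map (cmp h g V').op (F.obj.map ((EtCoh.bc (h ≫ g)).map φ).op s) := by
  rw [← Functor.map_comp_apply, ← op_comp, ← Functor.map_comp_apply, ← op_comp]
  exact congrArg (fun m => F.obj.map (Quiver.Hom.op m) s)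
    ((MorphismProperty.Over.pullbackComp (P := EtCoh.etaleMP) (Q := ⊤) h g).symm.hom.naturality φ)

/-- The comparison map on sections. -/
noncomputable def cmpApp (V : Z.Etaleᵒᵖ) :
    (EtShriek.lowerShriekPre (h ≫ g) F).obj V ⟶ (EtShriek.lowerShriekPre g ((shriekFunctor h).obj F)).obj V :=
  AddCommGrpCat.ofHom (AddMonoidHom.mk'
    (fun s => (⟨⟨F.obj.map (cmp h g V.unop).op s.1, cmp_mem h g F s⟩, cmp_mem_outer h g F s⟩ :
      EtShriek.shriekSubgroup g ((shriekFunctor h).obj F) V.unop))
    (fun s t => Subtype.ext (Subtype.ext (map_add (F.obj.map (cmp h g V.unop).op).hom s.1 t.1))))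

theorem bijective_cmpApp (V : Z.Etaleᵒᵖ) : Function.Bijective (cmpApp h g F V) := by
  refine ⟨fun s t e => Subtype.ext ?_, fun t => ?_⟩
  · have e' : F.obj.map (cmp h g V.unop).op s.1 = F.obj.map (cmp h g V.unop).op t.1 :=
      congrArg (fun z => z.1.1) e
    exact ((ConcreteCategory.isIso_iff_bijective (F.obj.map (cmp h g V.unop).op)).1 inferInstance).1 e'
  · obtain ⟨s, hs⟩ := ((ConcreteCategory.isIso_iff_bijective (F.obj.map (cmp h g V.unop).op)).1 inferInstance).2 t.1.1
    have hmem : s ∈ EtShriek.shriekSubgroup (h ≫ g) F V.unop := by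
      refine (mem_shriekSubgroup_iff _ F _).2 ((isProperSect_comp_iff h g F s).2 ?_)
      rw [hs]
      refine ⟨(mem_shriekSubgroup_iff h F _).1 t.1.2, ?_⟩
      have := (mem_shriekSubgroup_iff g ((shriekFunctor h).obj F) t.1).1 t.2
      rw [IsProperSect, supp_shriekFunctor] at this
      exact this
    exact ⟨⟨s, hmem⟩, Subtype.ext (Subtype.ext hs)⟩

/-- The comparison isomorphism of presheaves. -/
noncomputable def cmpPre :
    EtShriek.lowerShriekPre (h ≫ g) F ≅ EtShriek.lowerShriekPre g ((shriekFunctor h).obj F) :=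
  NatIso.ofComponents
    (fun V =>
      haveI := (ConcreteCategory.isIso_iff_bijective (cmpApp h g F V)).2 (bijective_cmpApp h g F V)
      asIso (cmpApp h g F V))
    (fun {V V'} φ => AddCommGrpCat.hom_ext (AddMonoidHom.ext fun s =>
      Subtype.ext (Subtype.ext (cmp_nat h g F φ.unop s.1).symm)))

/-- The comparison isomorphism. -/
noncomputable def compIso : EtShriek.lowerShriek (h ≫ g) ≅ EtShriek.lowerShriek h ⋙ EtShriek.lowerShriek g :=
  Functor.isoWhiskerRight (NatIso.ofComponents (fun F => cmpPre h g F) (fun {F G} α =>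
      NatTrans.ext (funext fun V => AddCommGrpCat.hom_ext (AddMonoidHom.ext fun s => Subtype.ext (Subtype.ext
        (NatTrans.naturality_apply α.hom (cmp h g V.unop).op s.1).symm)))) :
      EtShriek.lowerShriekPreFunctor (h ≫ g) ≅ shriekFunctor h ⋙ EtShriek.lowerShriekPreFunctor g)
    (presheafToSheaf Z.smallEtaleTopology AddCommGrpCat.{u + 1}) ≪≫
    Functor.isoWhiskerRight (shriekFunctorIso h) (EtShriek.lowerShriek g)

theorem toSheafify_compIso :
    toSheafify Z.smallEtaleTopology (EtShriek.lowerShriekPre (h ≫ g) F) ≫ ((compIso h g).hom.app F).hom =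
      (cmpPre h g F).hom ≫ (EtShriek.lowerShriekPreFunctor g).map ((shriekFunctorIso h).hom.app F) ≫
        toSheafify Z.smallEtaleTopology (EtShriek.lowerShriekPre g ((EtShriek.lowerShriek h).obj F)) := by
  show toSheafify _ _ ≫ sheafifyMap Z.smallEtaleTopology (cmpPre h g F).hom ≫
      sheafifyMap Z.smallEtaleTopology ((EtShriek.lowerShriekPreFunctor g).map ((shriekFunctorIso h).hom.app F)) = _
  refine (Category.assoc _ _ _).symm.trans ((congrArg (· ≫ _) (toSheafify_naturality _ _).symm).trans ?_)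
  refine (Category.assoc _ _ _).trans (congrArg ((cmpPre h g F).hom ≫ ·) ?_)
  exact (toSheafify_naturality _ _).symm

theorem toSheafify_lowerShriek_map {A B : EtCoh.Ab Y} (α : A ⟶ B) :
    toSheafify Z.smallEtaleTopology (EtShriek.lowerShriekPre g A) ≫ ((EtShriek.lowerShriek g).map α).hom =
      (EtShriek.lowerShriekPreFunctor g).map α ≫ toSheafify Z.smallEtaleTopology (EtShriek.lowerShriekPre g B) :=
  (toSheafify_naturality _ _).symm

theorem compIso_compat :
    (compIso h g).hom.app F ≫ (EtShriek.lowerShriek g).map (EtShriek.lowerShriekToPush h F) ≫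
        EtShriek.lowerShriekToPush g ((EtCoh.push h).obj F) =
      EtShriek.lowerShriekToPush (h ≫ g) F ≫ (EtCoh.pushComp g h).inv.app F := by
  haveI := isIso_toSheafify_shriek (h ≫ g) F
  refine ObjectProperty.hom_ext _ ((cancel_epi (toSheafify Z.smallEtaleTopology
    (EtShriek.lowerShriekPre (h ≫ g) F))).1 ?_)
  refine Eq.trans ?_ (Category.assoc _ _ _)
  refine Eq.trans ?_ (congrArg (· ≫ _) (toSheafify_comp_lowerShriekToPush (h ≫ g) F)).symm
  refine (Category.assoc _ _ _).symm.trans ((congrArg (· ≫ _) (toSheafify_compIso h g F)).trans ?_)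
  refine (Category.assoc _ _ _).trans ((congrArg ((cmpPre h g F).hom ≫ ·) (show _ =
    (EtShriek.lowerShriekPreFunctor g).map ((shriekFunctorIso h).hom.app F) ≫
      (EtShriek.lowerShriekPreFunctor g).map (EtShriek.lowerShriekToPush h F) ≫
        EtShriek.lowerShriekPreι g ((EtCoh.push h).obj F) from ?_)).trans ?_)
  · refine (Category.assoc _ _ _).trans (congrArg (_ ≫ ·) ?_)
    refine (Category.assoc _ _ _).symm.trans ((congrArg (· ≫ _) (toSheafify_lowerShriek_map g _)).trans ?_)
    exact (Category.assoc _ _ _).trans (congrArg (_ ≫ ·) (toSheafify_comp_lowerShriekToPush g _))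
  · refine NatTrans.ext (funext fun V => AddCommGrpCat.hom_ext (AddMonoidHom.ext fun s => ?_))
    have e := NatTrans.congr_app (toSheafify_comp_lowerShriekToPush h F) (op ((EtCoh.bc g).obj V.unop))
    exact (ConcreteCategory.congr_hom e _).trans rfl

theorem existsUnique_compIso :
    ∃! φ : EtShriek.lowerShriek (h ≫ g) ≅ EtShriek.lowerShriek h ⋙ EtShriek.lowerShriek g,
      ∀ F : EtCoh.Ab X,
        φ.hom.app F ≫ (EtShriek.lowerShriek g).map (EtShriek.lowerShriekToPush h F) ≫
            EtShriek.lowerShriekToPush g ((EtCoh.push h).obj F) =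
          EtShriek.lowerShriekToPush (h ≫ g) F ≫ (EtCoh.pushComp g h).inv.app F := by
  refine ⟨compIso h g, compIso_compat h g, fun φ hφ => Iso.ext (NatTrans.ext (funext fun F => ?_))⟩
  haveI := mono_lowerShriekToPush (h ≫ g) F
  haveI : Mono ((EtShriek.lowerShriek g).map (EtShriek.lowerShriekToPush h F) ≫
      EtShriek.lowerShriekToPush g ((EtCoh.push h).obj F)) := by
    rw [show (EtShriek.lowerShriek g).map (EtShriek.lowerShriekToPush h F) ≫ EtShriek.lowerShriekToPush g _ =
      inv ((compIso h g).hom.app F) ≫ EtShriek.lowerShriekToPush (h ≫ g) F ≫ (EtCoh.pushComp g h).inv.app F from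
        (IsIso.eq_inv_comp _).2 (compIso_compat h g F)]
    infer_instance
  exact (cancel_mono ((EtShriek.lowerShriek g).map (EtShriek.lowerShriekToPush h F) ≫
      EtShriek.lowerShriekToPush g ((EtCoh.push h).obj F))).1 ((hφ F).trans (compIso_compat h g F).symm)

end Groth.L27.Supp
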