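import Groth.Agent.L27.ExtZero.Stalk
import Groth.Agent.L27.ExtZero.Restr
import Groth.Agent.L27.EtSite.PushStalk
import Groth.Agent.L27.EtSite.Common
import Mathlib.AlgebraicGeometry.Morphisms.FlatMono
import Mathlib.AlgebraicGeometry.Morphisms.Separated
import Mathlib.Algebra.DirectSum.Basic

/-! # The map from the extension by zero to the direct image -/

universe u

open CategoryTheory CategoryTheory.Limits AlgebraicGeometry Opposite
open scoped DirectSum

set_option backward.isDefEq.respectTransparency.types false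
set_option linter.style.haveILetI false
set_option linter.unusedSectionVars false
set_option linter.unusedVariables false

namespace Groth.L27.ExtZero

theorem eq_zero_of_proj {I : Type u} [DecidableEq I] (M : I → AddCommGrpCat.{u + 1})
    (x : (∐ M : AddCommGrpCat.{u + 1})) (π : ∀ i, (∐ M : AddCommGrpCat.{u + 1}) ⟶ M i)
    (h1 : ∀ i, Sigma.ι M i ≫ π i = 𝟙 _) (h2 : ∀ i k, k ≠ i → Sigma.ι M k ≫ π i = 0) (hx : ∀ i, π i x = 0) :
    x = 0 := by
  let θ : (∐ M : AddCommGrpCat.{u + 1}) ⟶ AddCommGrpCat.of (⨁ i, M i) :=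
    Sigma.desc fun i => AddCommGrpCat.ofHom (DirectSum.of (fun i => M i) i)
  let κ : AddCommGrpCat.of (⨁ i, M i) ⟶ (∐ M : AddCommGrpCat.{u + 1}) :=
    AddCommGrpCat.ofHom (DirectSum.toAddMonoid fun i => (Sigma.ι M i).hom)
  have hκ : θ ≫ κ = 𝟙 _ := Sigma.hom_ext _ _ fun i => by
    rw [Sigma.ι_desc_assoc, Category.comp_id]
    refine AddCommGrpCat.hom_ext (AddMonoidHom.ext fun m => ?_)
    exact DirectSum.toAddMonoid_of (fun i => (Sigma.ι M i).hom) i m
  have hc : ∀ i, θ ≫ AddCommGrpCat.ofHom (DFinsupp.evalAddMonoidHom i : (⨁ i, M i) →+ M i) = π i := fun i =>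
    Sigma.hom_ext _ _ fun k => by
      rw [Sigma.ι_desc_assoc]
      refine AddCommGrpCat.hom_ext (AddMonoidHom.ext fun m => ?_)
      show (DirectSum.of (fun i => M i) k m) i = (Sigma.ι M k ≫ π i) m
      by_cases hki : k = i
      · subst hki
        rw [h1, DirectSum.of_eq_same]
        rfl
      · rw [h2 i k hki, DirectSum.of_eq_of_ne _ _ _ (Ne.symm hki)]
        rfl
  have h0 : θ x = 0 := DFinsupp.ext fun i => (ConcreteCategory.congr_hom (hc i) x).trans (hx i)
  have hx' := ConcreteCategory.congr_hom hκ x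
  rw [ConcreteCategory.comp_apply, h0, map_zero] at hx'
  exact hx'.symm

variable {U X : Scheme.{u}} (j : U ⟶ X) [hj : Etale j] [IsSeparated j]

instance isOpenImmersion_etaE (T : U.Etale) : IsOpenImmersion (etaE j T).left := by
  haveI : IsSplitMono (etaE j T).left := IsSplitMono.mk' ⟨_, LimCoh.lift_fstB j _ _⟩
  haveI := EtSite.etale_left (etaE j T)
  exact IsOpenImmersion.of_flat_of_mono _

theorem isClosed_range_etaE (T : U.Etale) : IsClosed (Set.range (etaE j T).left.base) := by
  haveI : IsSeparated (LimCoh.fstB j ((EtShriek.compEtale j).obj T)) :=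
    MorphismProperty.pullback_fst _ _ inferInstance
  haveI : IsClosedImmersion ((etaE j T).left ≫ LimCoh.fstB j ((EtShriek.compEtale j).obj T)) := by
    rw [show (etaE j T).left ≫ LimCoh.fstB j ((EtShriek.compEtale j).obj T) = 𝟙 _ from LimCoh.lift_fstB j _ _]
    exact inferInstanceAs (IsClosedImmersion (𝟙 (T.left : Scheme.{u})))
  haveI : IsClosedImmersion (etaE j T).left :=
    IsClosedImmersion.of_comp (etaE j T).left (LimCoh.fstB j ((EtShriek.compEtale j).obj T))
  exact (etaE j T).left.isClosedEmbedding.isClosed_range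

/-- The complement of the graph. -/
noncomputable def comp' (T : U.Etale) : ((EtCoh.bc j).obj ((EtShriek.compEtale j).obj T)).left.Opens :=
  ⟨(Set.range (etaE j T).left.base)ᶜ, (isClosed_range_etaE j T).isOpen_compl⟩

/-- The complement as an etale scheme. -/
noncomputable abbrev compE (T : U.Etale) : U.Etale :=
  Scheme.Etale.mk ((comp' j T).ι ≫ ((EtCoh.bc j).obj ((EtShriek.compEtale j).obj T)).hom)

/-- The inclusion of the complement. -/
noncomputable abbrev compι (T : U.Etale) : compE j T ⟶ (EtCoh.bc j).obj ((EtShriek.compEtale j).obj T) :=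
  MorphismProperty.Over.homMk (comp' j T).ι rfl

/-- The two pieces. -/
noncomputable abbrev piece (T : U.Etale) : Bool → U.Etale := fun b => Bool.rec (compE j T) T b

/-- The inclusions of the two pieces. -/
noncomputable def pieceι (T : U.Etale) : ∀ b, piece j T b ⟶ (EtCoh.bc j).obj ((EtShriek.compEtale j).obj T)
  | false => compι j T
  | true => etaE j T

variable (F : EtCoh.Ab U)

theorem bijective_restr (T : U.Etale) :
    Function.Bijective fun t : F.obj.obj (op ((EtCoh.bc j).obj ((EtShriek.compEtale j).obj T))) =>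
      (F.obj.map (etaE j T).op t, F.obj.map (compι j T).op t) := by
  haveI : ∀ b, IsOpenImmersion (pieceι j T b).left := fun b => by
    cases b
    · exact inferInstanceAs (IsOpenImmersion (comp' j T).ι)
    · exact isOpenImmersion_etaE j T
  have hd : Pairwise fun a b => Disjoint (Set.range (pieceι j T a).left) (Set.range (pieceι j T b).left) := by
    have h : Disjoint (Set.range (compι j T).left) (Set.range (etaE j T).left) := by
      show Disjoint (Set.range (comp' j T).ι) _
      rw [Scheme.Opens.range_ι]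
      exact disjoint_compl_left
    intro a b hab
    cases a <;> cases b
    · exact absurd rfl hab
    · exact h
    · exact h.symm
    · exact absurd rfl hab
  have hc : ∀ x, ∃ b y, (pieceι j T b).left y = x := fun x => by
    by_cases hx : x ∈ Set.range (etaE j T).left.base
    · obtain ⟨y, hy⟩ := hx
      exact ⟨true, y, hy⟩
    · exact ⟨false, ⟨x, hx⟩, rfl⟩
  have hb := EtSite.bijective_of_disjoint
    ((sheafCompose U.smallEtaleTopology (forget AddCommGrpCat.{u + 1})).obj F) (piece j T) (pieceι j T) hd hc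
  refine ⟨fun a b hab => hb.1 (funext fun i => ?_), fun p => ?_⟩
  · cases i
    · exact (Prod.mk.inj hab).2
    · exact (Prod.mk.inj hab).1
  · obtain ⟨t, ht⟩ := hb.2 (fun i => match i with | false => p.2 | true => p.1)
    exact ⟨t, Prod.ext (congrFun ht true) (congrFun ht false)⟩

theorem ext_restr {T : U.Etale} {t t' : F.obj.obj (op ((EtCoh.bc j).obj ((EtShriek.compEtale j).obj T)))}
    (h1 : F.obj.map (etaE j T).op t = F.obj.map (etaE j T).op t')
    (h2 : F.obj.map (compι j T).op t = F.obj.map (compι j T).op t') : t = t' :=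
  (bijective_restr j F T).1 (Prod.ext h1 h2)

/-- Extension of a section by zero. -/
noncomputable def extSec (T : U.Etale) (s : F.obj.obj (op T)) :
    F.obj.obj (op ((EtCoh.bc j).obj ((EtShriek.compEtale j).obj T))) :=
  ((bijective_restr j F T).2 (s, 0)).choose

theorem extSec_eta (T : U.Etale) (s : F.obj.obj (op T)) : F.obj.map (etaE j T).op (extSec j F T s) = s :=
  (Prod.mk.inj ((bijective_restr j F T).2 (s, 0)).choose_spec).1

theorem extSec_comp (T : U.Etale) (s : F.obj.obj (op T)) : F.obj.map (compι j T).op (extSec j F T s) = 0 :=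
  (Prod.mk.inj ((bijective_restr j F T).2 (s, 0)).choose_spec).2

theorem mapsTo_comp {T T' : U.Etale} (m : T' ⟶ T) :
    ∀ y, ((EtCoh.bc j).map ((EtShriek.compEtale j).map m)).left ((comp' j T').ι y) ∈ comp' j T := by
  intro y hy
  obtain ⟨t, ht⟩ := hy
  obtain ⟨W, a, b, w, ha, -, hab⟩ := EtSite.exists_common
    ((EtCoh.bc j).map ((EtShriek.compEtale j).map m)) (etaE j T) ((comp' j T').ι y) t ht.symm
  let A : W ⟶ T' := MorphismProperty.Over.homMk (a.left ≫ LimCoh.fstB j ((EtShriek.compEtale j).obj T')) (by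
    have e : (a.left ≫ LimCoh.fstB j ((EtShriek.compEtale j).obj T')) ≫ m.left = b.left := by
      have h := congrArg (fun z => z.left ≫ LimCoh.fstB j ((EtShriek.compEtale j).obj T)) hab
      refine Eq.trans ?_ (h.trans ((Category.assoc _ _ _).trans
        ((congrArg (b.left ≫ ·) (LimCoh.lift_fstB j _ _)).trans (Category.comp_id _))))
      exact (Category.assoc _ _ _).trans ((congrArg (a.left ≫ ·)
        (LimCoh.fstB_nat j ((EtShriek.compEtale j).map m)).symm).trans (Category.assoc _ _ _).symm)
    exact (congrArg (_ ≫ ·) (MorphismProperty.Over.w m).symm).trans ((Category.assoc _ _ _).symm.trans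
      ((congrArg (· ≫ T.hom) e).trans (MorphismProperty.Over.w b))))
  have h : A ≫ etaE j T' = a := LimCoh.bc_hom_ext j ((Category.assoc _ _ _).trans
    ((congrArg (A.left ≫ ·) (LimCoh.lift_fstB j _ _)).trans (Category.comp_id _)))
  refine y.2 ⟨A.left w, ?_⟩
  exact (Scheme.Hom.comp_apply _ _ _).symm.trans ((congrArg (fun z => z.left w) h).trans ha)

/-- Lifting into an open. -/
noncomputable def opLift {Y Z : Scheme.{u}} (W : Y.Opens) (f : Z ⟶ Y) (h : Set.range f ⊆ Set.range W.ι) :
    Z ⟶ (W : Scheme.{u}) :=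
  IsOpenImmersion.lift W.ι f h

theorem opLift_fac {Y Z : Scheme.{u}} (W : Y.Opens) (f : Z ⟶ Y) (h : Set.range f ⊆ Set.range W.ι) :
    opLift W f h ≫ W.ι = f :=
  IsOpenImmersion.lift_fac _ _ _

/-- The restricted morphism on complements. -/
noncomputable def compMapE {T T' : U.Etale} (m : T' ⟶ T) : compE j T' ⟶ compE j T :=
  have hr : Set.range ((comp' j T').ι ≫ ((EtCoh.bc j).map ((EtShriek.compEtale j).map m)).left) ⊆
      Set.range (comp' j T).ι := by
    rw [Scheme.Opens.range_ι]
    rintro - ⟨y, rfl⟩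
    exact mapsTo_comp j m y
  let l : (comp' j T' : Scheme.{u}) ⟶ (comp' j T : Scheme.{u}) := opLift (comp' j T) _ hr
  have hl : l ≫ (comp' j T).ι = (comp' j T').ι ≫ ((EtCoh.bc j).map ((EtShriek.compEtale j).map m)).left :=
    opLift_fac _ _ _
  MorphismProperty.Over.homMk l ((Category.assoc _ _ _).symm.trans ((congrArg (· ≫ _) hl).trans
    ((Category.assoc _ _ _).trans
      (congrArg ((comp' j T').ι ≫ ·) (MorphismProperty.Over.w ((EtCoh.bc j).map ((EtShriek.compEtale j).map m)))))))

theorem compMapE_ι {T T' : U.Etale} (m : T' ⟶ T) :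
    compMapE j m ≫ compι j T = compι j T' ≫ (EtCoh.bc j).map ((EtShriek.compEtale j).map m) :=
  MorphismProperty.Over.Hom.ext (opLift_fac _ _ _)

theorem extSec_nat {T T' : U.Etale} (m : T' ⟶ T) (s : F.obj.obj (op T)) :
    F.obj.map ((EtCoh.bc j).map ((EtShriek.compEtale j).map m)).op (extSec j F T s) =
      extSec j F T' (F.obj.map m.op s) := by
  refine ext_restr j F ?_ ?_
  · rw [extSec_eta, ← Functor.map_comp_apply, ← op_comp, ← etaE_nat, op_comp, Functor.map_comp_apply, extSec_eta]
  · rw [extSec_comp, ← Functor.map_comp_apply, ← op_comp, ← compMapE_ι, op_comp, Functor.map_comp_apply,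
      extSec_comp, map_zero]

theorem extSec_add (T : U.Etale) (s s' : F.obj.obj (op T)) :
    extSec j F T (s + s') = extSec j F T s + extSec j F T s' :=
  ext_restr j F (by rw [map_add, extSec_eta, extSec_eta, extSec_eta])
    (by rw [map_add, extSec_comp, extSec_comp, extSec_comp, add_zero])

theorem extSec_app {F G : EtCoh.Ab U} (α : F ⟶ G) (T : U.Etale) (s : F.obj.obj (op T)) :
    α.hom.app (op ((EtCoh.bc j).obj ((EtShriek.compEtale j).obj T))) (extSec j F T s) =
      extSec j G T (α.hom.app (op T) s) := by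
  refine ext_restr j G ?_ ?_
  · rw [extSec_eta, ← NatTrans.naturality_apply, extSec_eta]
  · rw [extSec_comp, ← NatTrans.naturality_apply, extSec_comp, map_zero]

variable [EtShriek.JCont j]

/-- The transpose of the map to the direct image. -/
noncomputable def sMap : F ⟶ (EtShriek.restrAlong j).obj ((EtCoh.push j).obj F) :=
  ⟨{ app := fun T => AddCommGrpCat.ofHom (AddMonoidHom.mk' (extSec j F T.unop) (extSec_add j F T.unop))
     naturality := fun T T' m => AddCommGrpCat.hom_ext (AddMonoidHom.ext fun s => (extSec_nat j F m.unop s).symm) }⟩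

theorem sMap_nat {F G : EtCoh.Ab U} (α : F ⟶ G) :
    α ≫ sMap j G = sMap j F ≫ (EtShriek.restrAlong j).map ((EtCoh.push j).map α) :=
  ObjectProperty.hom_ext _ (NatTrans.ext (funext fun T => AddCommGrpCat.hom_ext (AddMonoidHom.ext fun s =>
    (extSec_app j α T.unop s).symm)))

/-- The map from the extension by zero to the direct image. -/
noncomputable def toPush : EtShriek.extZero j ⟶ EtCoh.push j where
  app F := ((EtShriek.extZeroAdj j).homEquiv F _).symm (sMap j F)
  naturality F G α := by
    rw [← Adjunction.homEquiv_naturality_left_symm, ← Adjunction.homEquiv_naturality_right_symm, sMap_nat]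

variable {Ω : Type u} [Field Ω] [IsSepClosed Ω] (ξ : Spec (CommRingCat.of Ω) ⟶ X)

/-- The composite on stalks. -/
noncomputable abbrev stalkMap' : (∐ stalks j ξ F : AddCommGrpCat.{u + 1}) ⟶ (EtCoh.stalk ξ).obj ((EtCoh.push j).obj F) :=
  (stalkIso j ξ F).inv ≫ (EtCoh.stalk ξ).map ((toPush j).app F)

theorem stalkMap'_germ (v : PtLift j ξ) (T : U.Etale) (z : (Scheme.pointSmallEtale v.1).fiber.obj T)
    (s : F.obj.obj (op T)) :
    stalkMap' j F ξ (Sigma.ι (stalks j ξ F) v ((Scheme.pointSmallEtale v.1).toPresheafFiber T z F.obj s)) =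
      (Scheme.pointSmallEtale ξ).toPresheafFiber ((EtShriek.compEtale j).obj T) (fibIncl j ξ v T z)
        ((EtCoh.push j).obj F).obj (extSec j F T s) := by
  let M := (EtCoh.stalk ξ).obj ((EtCoh.push j).obj F)
  have h : stalkMap' j F ξ = stalkHom j ξ F M ((EtCoh.stalk ξ).map ((toPush j).app F)) :=
    ((stalkHom_comp j ξ F (𝟙 _) _).symm.trans (congrArg (stalkHom j ξ F M) (Category.id_comp _)))
  rw [h]
  refine (ConcreteCategory.congr_hom (show Sigma.ι (stalks j ξ F) v ≫
    stalkHom j ξ F M ((EtCoh.stalk ξ).map ((toPush j).app F)) = _ from Sigma.ι_desc _ v) _).trans ?_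
  show ((Scheme.pointSmallEtale v.1).skyscraperSheafAdjunction.homEquiv F M).symm
    ((EtShriek.extZeroAdj j).homEquiv F _ ((Scheme.pointSmallEtale ξ).skyscraperSheafAdjunction.homEquiv _ M
      ((EtCoh.stalk ξ).map ((toPush j).app F))) ≫ skyProj j ξ v M)
    ((Scheme.pointSmallEtale v.1).toPresheafFiber T z F.obj s) = _
  refine (ConcreteCategory.congr_hom (GrothendieckTopology.Point.skyscraperSheafAdjunction_homEquiv_symm_apply
    (Scheme.pointSmallEtale v.1) ((EtShriek.extZeroAdj j).homEquiv F _
      ((Scheme.pointSmallEtale ξ).skyscraperSheafAdjunction.homEquiv _ M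
        ((EtCoh.stalk ξ).map ((toPush j).app F))) ≫ skyProj j ξ v M)) _).trans ?_
  refine (ConcreteCategory.congr_hom
    (GrothendieckTopology.Point.toPresheafFiber_skyscraperPresheafHomEquiv_symm
      (Scheme.pointSmallEtale v.1) ((EtShriek.extZeroAdj j).homEquiv F _
        ((Scheme.pointSmallEtale ξ).skyscraperSheafAdjunction.homEquiv _ M
          ((EtCoh.stalk ξ).map ((toPush j).app F))) ≫ skyProj j ξ v M).hom T z) s).trans ?_
  have hΨ : (EtShriek.extZeroAdj j).homEquiv F _
      ((Scheme.pointSmallEtale ξ).skyscraperSheafAdjunction.homEquiv _ M ((EtCoh.stalk ξ).map ((toPush j).app F))) =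
      sMap j F ≫ (EtShriek.restrAlong j).map
        ((Scheme.pointSmallEtale ξ).skyscraperSheafAdjunction.homEquiv _ M (𝟙 M)) := by
    rw [← Category.comp_id ((EtCoh.stalk ξ).map ((toPush j).app F)), Adjunction.homEquiv_naturality_left,
      Adjunction.homEquiv_naturality_right]
    exact congrArg (· ≫ _) (Equiv.apply_symm_apply _ _)
  refine (congrArg (fun ψ => (Pi.π (fun _ : (Scheme.pointSmallEtale v.1).fiber.obj T => M) z) ((ψ ≫ skyProj j ξ v M).hom.app (op T) s)) hΨ).trans ?_
  refine (ConcreteCategory.congr_hom (Pi.lift_π (fun z' : (Scheme.pointSmallEtale v.1).fiber.obj T =>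
    Pi.π (fun _ : (Scheme.pointSmallEtale ξ).fiber.obj ((EtShriek.compEtale j).obj T) => M)
      (fibIncl j ξ v T z')) z) _).trans ?_
  have hhom := GrothendieckTopology.Point.skyscraperSheafAdjunction_homEquiv_apply_hom
    (Scheme.pointSmallEtale ξ) (F := (EtCoh.push j).obj F) (𝟙 M)
  refine (congrArg (fun p => (Pi.π (fun _ : (Scheme.pointSmallEtale ξ).fiber.obj ((EtShriek.compEtale j).obj T) => M)
    (fibIncl j ξ v T z)) (p.app (op ((EtShriek.compEtale j).obj T)) (extSec j F T s))) hhom).trans ?_
  exact (ConcreteCategory.congr_hom (GrothendieckTopology.Point.skyscraperPresheafHomEquiv_app_π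
    (Scheme.pointSmallEtale ξ) (P := ((EtCoh.push j).obj F).obj) (𝟙 M) _ (fibIncl j ξ v T z)) _).trans rfl

/-- The retraction of stalks at a lift. -/
noncomputable def retr (v : PtLift j ξ) :
    (EtCoh.stalk ξ).obj ((EtCoh.push j).obj F) ⟶ stalks j ξ F v :=
  (Scheme.pointSmallEtale ξ).presheafFiberDesc
    (fun W y => (Scheme.pointSmallEtale v.1).toPresheafFiber ((EtCoh.bc j).obj W)
      (Over.homMk (pullback.lift y.left v.1 ((Over.w y).trans v.2.symm)) (pullback.lift_snd _ _ _)) F.obj)
    fun W W' g y => by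
      refine ((Scheme.pointSmallEtale v.1).toPresheafFiber_w ((EtCoh.bc j).map g) _ F.obj).trans ?_
      refine congrArg (fun q => (Scheme.pointSmallEtale v.1).toPresheafFiber _ q F.obj) (Over.OverMorphism.ext ?_)
      refine pullback.hom_ext ?_ ?_
      · exact (Category.assoc _ _ _).trans ((congrArg (_ ≫ ·) (LimCoh.fstB_nat j g)).trans
          ((Category.assoc _ _ _).symm.trans ((congrArg (· ≫ g.left) (pullback.lift_fst _ _ _)).trans
            (pullback.lift_fst _ _ _).symm)))
      · exact (Category.assoc _ _ _).trans ((congrArg (_ ≫ ·) (MorphismProperty.Over.w ((EtCoh.bc j).map g))).trans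
          ((pullback.lift_snd _ _ _).trans (pullback.lift_snd _ _ _).symm))

theorem retr_germ (v w : PtLift j ξ) (T : U.Etale) (z : (Scheme.pointSmallEtale w.1).fiber.obj T)
    (s : F.obj.obj (op T)) :
    (w ≠ v → retr j F ξ v ((Scheme.pointSmallEtale ξ).toPresheafFiber ((EtShriek.compEtale j).obj T)
        (fibIncl j ξ w T z) ((EtCoh.push j).obj F).obj (extSec j F T s)) = 0) ∧
    (∀ e : w = v, retr j F ξ v ((Scheme.pointSmallEtale ξ).toPresheafFiber ((EtShriek.compEtale j).obj T)
        (fibIncl j ξ w T z) ((EtCoh.push j).obj F).obj (extSec j F T s)) =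
      (Scheme.pointSmallEtale v.1).toPresheafFiber T (e ▸ z) F.obj s) := by
  have h0 : retr j F ξ v ((Scheme.pointSmallEtale ξ).toPresheafFiber ((EtShriek.compEtale j).obj T)
        (fibIncl j ξ w T z) ((EtCoh.push j).obj F).obj (extSec j F T s)) =
      (Scheme.pointSmallEtale v.1).toPresheafFiber ((EtCoh.bc j).obj ((EtShriek.compEtale j).obj T))
        (Over.homMk (pullback.lift (fibIncl j ξ w T z).left v.1 ((Over.w (fibIncl j ξ w T z)).trans v.2.symm))
          (pullback.lift_snd _ _ _)) F.obj (extSec j F T s) :=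
    ConcreteCategory.congr_hom (GrothendieckTopology.Point.toPresheafFiber_presheafFiberDesc
      (Scheme.pointSmallEtale ξ) (P := ((EtCoh.push j).obj F).obj) _ _ ((EtShriek.compEtale j).obj T)
      (fibIncl j ξ w T z)) _
  refine ⟨fun hne => ?_, fun e => ?_⟩
  · set q := Over.homMk (U := Over.mk v.1) (V := Over.mk ((EtCoh.bc j).obj ((EtShriek.compEtale j).obj T)).hom)
      (pullback.lift (fibIncl j ξ w T z).left v.1 ((Over.w (fibIncl j ξ w T z)).trans v.2.symm))
      (pullback.lift_snd _ _ _) with hq
    have hmem : Set.range q.left ⊆ Set.range (comp' j T).ι := by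
      rw [Scheme.Opens.range_ι]
      rintro - ⟨a, rfl⟩ hc
      have hr : Set.range q.left ⊆ Set.range (etaE j T).left := by
        haveI : Subsingleton (Over.mk v.1).left := inferInstanceAs (Subsingleton (Spec (CommRingCat.of Ω)))
        rintro - ⟨a', rfl⟩; rwa [Subsingleton.elim a' a]
      have hl := IsOpenImmersion.lift_fac (etaE j T).left q.left hr
      set L := IsOpenImmersion.lift (etaE j T).left q.left hr
      have e1 : L = z.left := by
        have h' := congrArg (· ≫ LimCoh.fstB j ((EtShriek.compEtale j).obj T)) hl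
        refine Eq.trans ?_ (h'.trans (pullback.lift_fst _ _ _))
        refine ((Category.assoc _ _ _).trans ((congrArg (L ≫ ·) ?_).trans (Category.comp_id L))).symm
        exact LimCoh.lift_fstB j _ _
      refine hne (Subtype.ext ?_)
      refine (Over.w z).symm.trans ((congrArg (· ≫ T.hom) e1.symm).trans ?_)
      refine (congrArg (L ≫ ·) (MorphismProperty.Over.w (etaE j T)).symm).trans ?_
      exact (Category.assoc _ _ _).symm.trans ((congrArg (· ≫ _) hl).trans (Over.w q))
    let l : Spec (CommRingCat.of Ω) ⟶ (comp' j T : Scheme.{u}) := IsOpenImmersion.lift (comp' j T).ι q.left hmem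
    have hl : l ≫ (comp' j T).ι = q.left := IsOpenImmersion.lift_fac _ _ _
    let q' : (Scheme.pointSmallEtale v.1).fiber.obj (compE j T) :=
      Over.homMk l ((Category.assoc _ _ _).symm.trans ((congrArg (· ≫ _) hl).trans (Over.w q)))
    have hqq : (Scheme.pointSmallEtale v.1).fiber.map (compι j T) q' = q := Over.OverMorphism.ext hl
    refine h0.trans ?_
    refine (congrArg (fun p => (Scheme.pointSmallEtale v.1).toPresheafFiber _ p F.obj (extSec j F T s)) hqq.symm).trans ?_
    rw [← GrothendieckTopology.Point.toPresheafFiber_w_apply, extSec_comp, map_zero]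
    rfl
  · subst e
    refine h0.trans ?_
    refine Eq.trans ?_ ((congrArg _ (extSec_eta j F T s)))
    rw [GrothendieckTopology.Point.toPresheafFiber_w_apply]
    refine congrArg (fun q => (Scheme.pointSmallEtale w.1).toPresheafFiber _ q F.obj (extSec j F T s))
      (Over.OverMorphism.ext (pullback.hom_ext ?_ ?_))
    · exact (pullback.lift_fst _ _ _).trans ((Category.comp_id _).symm.trans
        ((congrArg (z.left ≫ ·) (LimCoh.lift_fstB j _ _).symm).trans (Category.assoc _ _ _).symm))
    · exact (pullback.lift_snd _ _ _).trans ((Over.w z).symm.trans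
        ((congrArg (z.left ≫ ·) (MorphismProperty.Over.w (etaE j T)).symm).trans (Category.assoc _ _ _).symm))

theorem mono_toPush (F : EtCoh.Ab U) : Mono ((toPush j).app F) := by
  classical
  refine (EtSite.mono_iff_stalks _).2 fun Ω _ _ ξ => ?_
  let π : ∀ v, (∐ stalks j ξ F : AddCommGrpCat.{u + 1}) ⟶ stalks j ξ F v := fun v => stalkMap' j F ξ ≫ retr j F ξ v
  have key : Function.Injective (stalkMap' j F ξ) := by
    refine (injective_iff_map_eq_zero (stalkMap' j F ξ).hom).2 fun x hx => eq_zero_of_proj (stalks j ξ F) x π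
      (fun v => ?_) (fun v w hwv => ?_) (fun v => (congrArg (retr j F ξ v) hx).trans (map_zero _))
    · refine (Scheme.pointSmallEtale v.1).presheafFiber_hom_ext fun T z => ?_
      refine ConcreteCategory.hom_ext _ _ fun s => ?_
      exact (congrArg (retr j F ξ v) (stalkMap'_germ j F ξ v T z s)).trans ((retr_germ j F ξ v v T z s).2 rfl)
    · refine (Scheme.pointSmallEtale w.1).presheafFiber_hom_ext fun T z => ?_
      refine ConcreteCategory.hom_ext _ _ fun s => ?_
      exact ((congrArg (retr j F ξ v) (stalkMap'_germ j F ξ w T z s)).trans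
        ((retr_germ j F ξ v w T z s).1 hwv)).trans rfl
  intro a b hab
  have ha := fun a : (EtCoh.stalk ξ).obj ((EtShriek.extZero j).obj F) =>
    ConcreteCategory.congr_hom ((stalkIso j ξ F).hom_inv_id) a
  refine (ha a).symm.trans ((congrArg (stalkIso j ξ F).inv (key ?_)).trans (ha b))
  show (EtCoh.stalk ξ).map ((toPush j).app F) ((stalkIso j ξ F).inv ((stalkIso j ξ F).hom a)) =
    (EtCoh.stalk ξ).map ((toPush j).app F) ((stalkIso j ξ F).inv ((stalkIso j ξ F).hom b))
  rw [show (stalkIso j ξ F).inv ((stalkIso j ξ F).hom a) = a from ha a,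
    show (stalkIso j ξ F).inv ((stalkIso j ξ F).hom b) = b from ha b, hab]

end Groth.L27.ExtZero
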