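import Groth.Agent.L27.ExtZero.LqfGerms
import Groth.Agent.L27.ExtZero.ToPush
import Groth.Agent.L27.ExtZero.ShriekComp
import Mathlib.CategoryTheory.Adjunction.AdjointFunctorTheorems
import Mathlib.CategoryTheory.Abelian.Subobject
import Mathlib.CategoryTheory.Abelian.GrothendieckCategory.Basic

/-! # Stalks and exactness of direct images with proper support, locally quasi-finite case -/

universe u

open CategoryTheory CategoryTheory.Limits AlgebraicGeometry Opposite

set_option backward.isDefEq.respectTransparency.types false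
set_option linter.style.haveILetI false
set_option linter.unusedSectionVars false
set_option linter.unusedVariables false

namespace Groth.L27.Lqf

/-- Every point lies under a geometric point with algebraically closed field. -/
theorem exists_algClosed_point {Y : Scheme.{u}} (x : Y) :
    ∃ (K : Type u) (_ : Field K) (_ : IsAlgClosed K) (θ : Spec (CommRingCat.of K) ⟶ Y), θ.base default = x := by
  refine ⟨AlgebraicClosure (Y.residueField x), inferInstance, inferInstance,
    (Scheme.SpecToEquivOfField (AlgebraicClosure (Y.residueField x)) Y).symm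
      ⟨x, CommRingCat.ofHom (algebraMap (Y.residueField x) _)⟩, ?_⟩
  simp [Scheme.SpecToEquivOfField]

/-- Stalks at geometric points over algebraically closed fields detect isomorphisms. -/
theorem isIso_of_algClosed_stalks {Y : Scheme.{u}} {A B : EtCoh.Ab Y} (φ : A ⟶ B)
    (h : ∀ (K : Type u) [Field K] [IsAlgClosed K] (θ : Spec (CommRingCat.of K) ⟶ Y),
      IsIso ((EtCoh.stalk θ).map φ)) : IsIso φ := by
  have hb : ∀ (K : Type u) [Field K] [IsAlgClosed K] (θ : Spec (CommRingCat.of K) ⟶ Y),
      Function.Bijective ((EtCoh.stalk θ).map φ) := fun K _ _ θ =>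
    (ConcreteCategory.isIso_iff_bijective _).1 (h K θ)
  haveI : Sheaf.IsLocallyInjective φ := EtSite.isLocallyInjective_of_some_stalks φ.hom fun x => by
    obtain ⟨K, _, _, θ, hθ⟩ := exists_algClosed_point x
    exact ⟨K, inferInstance, inferInstance, θ, hθ, (hb K θ).1⟩
  haveI : Sheaf.IsLocallySurjective φ := EtSite.isLocallySurjective_of_some_stalks φ.hom fun x => by
    obtain ⟨K, _, _, θ, hθ⟩ := exists_algClosed_point x
    exact ⟨K, inferInstance, inferInstance, θ, hθ, (hb K θ).2⟩
  haveI : Mono φ := Sheaf.mono_of_isLocallyInjective φ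
  haveI : Epi φ := (Sheaf.isLocallySurjective_iff_epi' (φ := φ)).1 inferInstance
  exact isIso_of_mono_of_epi φ

variable {X Y : Scheme.{u}} (f : X ⟶ Y) [IsSeparated f] [LocallyOfFiniteType f] [LocallyQuasiFinite f]
  {K : Type u} [Field K] [IsAlgClosed K] (θ : Spec (CommRingCat.of K) ⟶ Y)

section

variable (F : EtCoh.Ab X)

/-- The unique germ concentrated at one lift. -/
noncomputable def single (v : Lift f θ) (a : (EtCoh.stalk v.1).obj F) :
    ((Scheme.pointSmallEtale θ).presheafFiber (A := AddCommGrpCat.{u + 1})).obj (EtShriek.lowerShriekPre f F) :=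
  (exists_single f F θ v a).choose

theorem retrL_single (v : Lift f θ) (a : (EtCoh.stalk v.1).obj F) : retrL f θ F v (single f θ F v a) = a :=
  (exists_single f F θ v a).choose_spec.1

theorem retrL_single_ne {v w : Lift f θ} (hw : w ≠ v) (a : (EtCoh.stalk v.1).obj F) :
    retrL f θ F w (single f θ F v a) = 0 :=
  (exists_single f F θ v a).choose_spec.2 w hw

theorem ext_retrL {p p' : ((Scheme.pointSmallEtale θ).presheafFiber (A := AddCommGrpCat.{u + 1})).obj
    (EtShriek.lowerShriekPre f F)} (h : ∀ v, retrL f θ F v p = retrL f θ F v p') : p = p' :=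
  sub_eq_zero.1 (eq_zero_of_retrL f F θ _ fun v => by rw [map_sub, h v, sub_self])

/-- The germs concentrated at one lift, as a homomorphism. -/
noncomputable def singleHom (v : Lift f θ) : (EtCoh.stalk v.1).obj F ⟶
    ((Scheme.pointSmallEtale θ).presheafFiber (A := AddCommGrpCat.{u + 1})).obj (EtShriek.lowerShriekPre f F) :=
  AddCommGrpCat.ofHom (AddMonoidHom.mk' (single f θ F v) fun a b => ext_retrL f θ F fun w => by
    by_cases hw : w = v
    · subst hw
      exact (retrL_single f θ F w _).trans ((congrArg₂ (fun x y => x + y) (retrL_single f θ F w a)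
        (retrL_single f θ F w b)).symm.trans (map_add (retrL f θ F w).hom _ _).symm)
    · exact (retrL_single_ne f θ F hw _).trans (((congrArg₂ (fun x y => x + y) (retrL_single_ne f θ F hw a)
        (retrL_single_ne f θ F hw b)).trans (add_zero _)).symm.trans (map_add (retrL f θ F w).hom _ _).symm))

/-- The sum of the germs. -/
noncomputable def sigmaHom : (∐ fun v : Lift f θ => (EtCoh.stalk v.1).obj F) ⟶
    ((Scheme.pointSmallEtale θ).presheafFiber (A := AddCommGrpCat.{u + 1})).obj (EtShriek.lowerShriekPre f F) :=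
  Sigma.desc (singleHom f θ F)

theorem sigmaHom_ι (v : Lift f θ) (a : (EtCoh.stalk v.1).obj F) :
    sigmaHom f θ F (Sigma.ι (fun v : Lift f θ => (EtCoh.stalk v.1).obj F) v a) = single f θ F v a :=
  ConcreteCategory.congr_hom (Sigma.ι_desc (singleHom f θ F) v) a

theorem bijective_sigmaHom : Function.Bijective (sigmaHom f θ F) := by
  classical
  refine ⟨(injective_iff_map_eq_zero (sigmaHom f θ F).hom).2 fun x hx => ?_, fun p => ?_⟩
  · refine ExtZero.eq_zero_of_proj (fun v : Lift f θ => (EtCoh.stalk v.1).obj F) x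
      (fun v => sigmaHom f θ F ≫ retrL f θ F v) (fun v => ?_) (fun v w hwv => ?_)
      (fun v => (congrArg (retrL f θ F v) hx).trans (map_zero _))
    · refine ConcreteCategory.hom_ext _ _ fun a => ?_
      exact (congrArg (retrL f θ F v) (sigmaHom_ι f θ F v a)).trans (retrL_single f θ F v a)
    · refine ConcreteCategory.hom_ext _ _ fun a => ?_
      exact ((congrArg (retrL f θ F v) (sigmaHom_ι f θ F w a)).trans
        (retrL_single_ne f θ F (Ne.symm hwv) a)).trans rfl
  · let S := (finite_retrL f θ F p).toFinset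
    refine ⟨∑ v ∈ S, Sigma.ι (fun v : Lift f θ => (EtCoh.stalk v.1).obj F) v (retrL f θ F v p),
      ext_retrL f θ F fun w => ?_⟩
    rw [map_sum, map_sum, Finset.sum_eq_single w (fun v _ hv => ?_) (fun hw => ?_)]
    · rw [sigmaHom_ι, retrL_single]
    · rw [sigmaHom_ι, retrL_single_ne f θ F (Ne.symm hv)]
    · rw [sigmaHom_ι, retrL_single]
      simpa [S] using hw

end

/-- The direct sum of the stalks at the lifts. -/
noncomputable def sumStalks : EtCoh.Ab X ⥤ AddCommGrpCat.{u + 1} where
  obj F := ∐ fun v : Lift f θ => (EtCoh.stalk v.1).obj F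
  map α := Limits.Sigma.map fun v => (EtCoh.stalk v.1).map α
  map_id F := Sigma.hom_ext _ _ fun v => by simp
  map_comp α β := Sigma.hom_ext _ _ fun v => by simp

theorem sigmaHom_naturality {F G : EtCoh.Ab X} (α : F ⟶ G) :
    (sumStalks f θ).map α ≫ sigmaHom f θ G = sigmaHom f θ F ≫
      ((Scheme.pointSmallEtale θ).presheafFiber (A := AddCommGrpCat.{u + 1})).map
        ((EtShriek.lowerShriekPreFunctor f).map α) := by
  refine Sigma.hom_ext _ _ fun v => ConcreteCategory.hom_ext _ _ fun a => ?_
  have h1 : Sigma.ι (fun v : Lift f θ => (EtCoh.stalk v.1).obj F) v ≫ (sumStalks f θ).map α =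
      (EtCoh.stalk v.1).map α ≫ Sigma.ι (fun v : Lift f θ => (EtCoh.stalk v.1).obj G) v :=
    Sigma.ι_map (fun v : Lift f θ => (EtCoh.stalk v.1).map α) v
  refine (congrArg (sigmaHom f θ G) (ConcreteCategory.congr_hom h1 a)).trans ?_
  refine (sigmaHom_ι f θ G v _).trans ?_
  refine Eq.trans ?_ (congrArg (((Scheme.pointSmallEtale θ).presheafFiber (A := AddCommGrpCat.{u + 1})).map
    ((EtShriek.lowerShriekPreFunctor f).map α)) (sigmaHom_ι f θ F v a)).symm
  refine ext_retrL f θ G fun w => ?_
  refine Eq.trans ?_ (ConcreteCategory.congr_hom (retrL_naturality f θ F w α) _).symm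
  show retrL f θ G w (single f θ G v ((EtCoh.stalk v.1).map α a)) = (EtCoh.stalk w.1).map α (retrL f θ F w (single f θ F v a))
  by_cases hw : w = v
  · subst hw
    rw [retrL_single, retrL_single]
  · rw [retrL_single_ne f θ G hw, retrL_single_ne f θ F hw, map_zero]

/-- The presheaf fibre of sections with proper support. -/
noncomputable def sumStalksIso : sumStalks f θ ≅ EtShriek.lowerShriekPreFunctor f ⋙
    (Scheme.pointSmallEtale θ).presheafFiber (A := AddCommGrpCat.{u + 1}) :=
  NatIso.ofComponents
    (fun F => @asIso _ _ _ _ (sigmaHom f θ F) ((ConcreteCategory.isIso_iff_bijective _).2 (bijective_sigmaHom f θ F)))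
    (fun α => sigmaHom_naturality f θ α)

/-- The stalk of the direct image with proper support. -/
noncomputable def stalkShriekIso : EtShriek.lowerShriek f ⋙ EtCoh.stalk θ ≅ sumStalks f θ :=
  (sumStalksIso f θ ≪≫ NatIso.ofComponents (G := EtShriek.lowerShriek f ⋙ EtCoh.stalk θ)
    (fun F => @asIso _ _ _ _ (((Scheme.pointSmallEtale θ).presheafFiber (A := AddCommGrpCat.{u + 1})).map
      (toSheafify Y.smallEtaleTopology (EtShriek.lowerShriekPre f F)))
      ((Scheme.pointSmallEtale θ).W_isInvertedBy_presheafFiber _ (GrothendieckTopology.W_toSheafify _ _)))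
    (fun {F G} α => (((Scheme.pointSmallEtale θ).presheafFiber (A := AddCommGrpCat.{u + 1})).map_comp _ _).symm.trans
      ((congrArg _ (toSheafify_naturality Y.smallEtaleTopology ((EtShriek.lowerShriekPreFunctor f).map α))).trans
        (((Scheme.pointSmallEtale θ).presheafFiber (A := AddCommGrpCat.{u + 1})).map_comp _ _)))).symm

/-- The product of skyscrapers at the lifts. -/
noncomputable def prodSky : AddCommGrpCat.{u + 1} ⥤ EtCoh.Ab X where
  obj M := ∏ᶜ fun v : Lift f θ => (Scheme.pointSmallEtale v.1).skyscraperSheaf M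
  map g := Limits.Pi.map fun v => (Scheme.pointSmallEtale v.1).skyscraperSheafFunctor.map g
  map_id M := Pi.hom_ext _ _ fun v => (Pi.map_π _ v).trans
    ((congrArg (_ ≫ ·) ((Scheme.pointSmallEtale v.1).skyscraperSheafFunctor.map_id M)).trans
      ((Category.comp_id _).trans (Category.id_comp _).symm))
  map_comp g g' := Pi.hom_ext _ _ fun v => by
    refine (Pi.map_π _ v).trans ((congrArg (_ ≫ ·)
      ((Scheme.pointSmallEtale v.1).skyscraperSheafFunctor.map_comp g g')).trans ?_)
    refine (Category.assoc _ _ _).symm.trans ((congrArg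
      (· ≫ (Scheme.pointSmallEtale v.1).skyscraperSheafFunctor.map g')
      (Pi.map_π (fun w : Lift f θ => (Scheme.pointSmallEtale w.1).skyscraperSheafFunctor.map g) v).symm).trans ?_)
    refine (Category.assoc _ _ _).trans ((congrArg (_ ≫ ·)
      (Pi.map_π (fun w : Lift f θ => (Scheme.pointSmallEtale w.1).skyscraperSheafFunctor.map g') v).symm).trans ?_)
    exact (Category.assoc _ _ _).symm

/-- Maps out of the sum of stalks. -/
noncomputable def sumEquiv (F : EtCoh.Ab X) (M : AddCommGrpCat.{u + 1}) :
    ((sumStalks f θ).obj F ⟶ M) ≃ (F ⟶ (prodSky f θ).obj M) where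
  toFun g := Pi.lift fun v => (Scheme.pointSmallEtale v.1).skyscraperSheafAdjunction.homEquiv F M
    (Sigma.ι (fun v : Lift f θ => (EtCoh.stalk v.1).obj F) v ≫ g)
  invFun g := Sigma.desc fun v => ((Scheme.pointSmallEtale v.1).skyscraperSheafAdjunction.homEquiv F M).symm
    (g ≫ Pi.π (fun v : Lift f θ => (Scheme.pointSmallEtale v.1).skyscraperSheaf M) v)
  left_inv g := Sigma.hom_ext _ _ fun v => (Sigma.ι_desc _ v).trans ((congrArg
    ((Scheme.pointSmallEtale v.1).skyscraperSheafAdjunction.homEquiv F M).symm (Pi.lift_π _ v)).trans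
      (Equiv.symm_apply_apply _ _))
  right_inv g := Pi.hom_ext _ _ fun v => (Pi.lift_π _ v).trans ((congrArg
    ((Scheme.pointSmallEtale v.1).skyscraperSheafAdjunction.homEquiv F M) (Sigma.ι_desc _ v)).trans
      (Equiv.apply_symm_apply _ _))

theorem sumEquiv_naturality_left {F F' : EtCoh.Ab X} {M : AddCommGrpCat.{u + 1}} (α : F ⟶ F')
    (g : (sumStalks f θ).obj F' ⟶ M) :
    sumEquiv f θ F M ((sumStalks f θ).map α ≫ g) = α ≫ sumEquiv f θ F' M g := by
  refine Pi.hom_ext _ _ fun v => ?_
  have e : sumEquiv f θ F' M g ≫ Pi.π (fun v : Lift f θ => (Scheme.pointSmallEtale v.1).skyscraperSheaf M) v =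
      (Scheme.pointSmallEtale v.1).skyscraperSheafAdjunction.homEquiv F' M
        (Sigma.ι (fun v : Lift f θ => (EtCoh.stalk v.1).obj F') v ≫ g) := Pi.lift_π _ v
  refine (Pi.lift_π _ v).trans (Eq.trans ?_ ((congrArg (α ≫ ·) e).symm.trans (Category.assoc _ _ _).symm))
  refine Eq.trans (congrArg _ ?_) ((Scheme.pointSmallEtale v.1).skyscraperSheafAdjunction.homEquiv_naturality_left α _)
  exact (Category.assoc _ _ _).symm.trans ((congrArg (· ≫ g)
    (Sigma.ι_map (fun v : Lift f θ => (EtCoh.stalk v.1).map α) v)).trans (Category.assoc _ _ _))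

theorem sumEquiv_naturality_right {F : EtCoh.Ab X} {M M' : AddCommGrpCat.{u + 1}}
    (g : (sumStalks f θ).obj F ⟶ M) (h : M ⟶ M') :
    sumEquiv f θ F M' (g ≫ h) = sumEquiv f θ F M g ≫ (prodSky f θ).map h := by
  refine Pi.hom_ext _ _ fun v => ?_
  refine (Pi.lift_π _ v).trans ((congrArg _ (Category.assoc _ _ _).symm).trans ?_)
  refine ((Scheme.pointSmallEtale v.1).skyscraperSheafAdjunction.homEquiv_naturality_right _ h).trans ?_
  refine Eq.trans ?_ ((congrArg (_ ≫ ·) (Pi.map_π (fun w : Lift f θ =>
    (Scheme.pointSmallEtale w.1).skyscraperSheafFunctor.map h) v)).symm.trans (Category.assoc _ _ _).symm)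
  have e : sumEquiv f θ F M g ≫ Pi.π (fun v : Lift f θ => (Scheme.pointSmallEtale v.1).skyscraperSheaf M) v =
      (Scheme.pointSmallEtale v.1).skyscraperSheafAdjunction.homEquiv F M
        (Sigma.ι (fun v : Lift f θ => (EtCoh.stalk v.1).obj F) v ≫ g) := Pi.lift_π _ v
  exact (congrArg (· ≫ (Scheme.pointSmallEtale v.1).skyscraperSheafFunctor.map h) e.symm).trans (Category.assoc _ _ _)

/-- The adjunction. -/
noncomputable def sumStalksAdj : sumStalks f θ ⊣ prodSky f θ :=
  Adjunction.mkOfHomEquiv
    { homEquiv := sumEquiv f θ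
      homEquiv_naturality_left_symm := fun {F F' M} α g => (sumEquiv f θ F M).injective (by
        rw [Equiv.apply_symm_apply, sumEquiv_naturality_left, Equiv.apply_symm_apply])
      homEquiv_naturality_right := fun {F M M'} g h => sumEquiv_naturality_right f θ g h }

/-- The direct image with proper support of a separated locally quasi-finite morphism preserves colimits. -/
theorem preservesColimits_lowerShriek : PreservesColimitsOfSize.{u + 1, u + 1} (EtShriek.lowerShriek f) := by
  refine ⟨fun {J} _ => ⟨fun {D} => ⟨fun {c} hc => ?_⟩⟩⟩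
  haveI : IsIso (colimit.desc (D ⋙ EtShriek.lowerShriek f) ((EtShriek.lowerShriek f).mapCocone c)) :=
    isIso_of_algClosed_stalks _ fun K _ _ θ => by
      haveI : (sumStalks f θ).IsLeftAdjoint := ⟨_, ⟨sumStalksAdj f θ⟩⟩
      haveI : PreservesColimit D (EtShriek.lowerShriek f ⋙ EtCoh.stalk θ) :=
        preservesColimit_of_natIso D (stalkShriekIso f θ).symm
      haveI : (EtCoh.stalk θ).IsLeftAdjoint := (Scheme.pointSmallEtale θ).skyscraperSheafAdjunction.isLeftAdjoint
      let h1 := isColimitOfPreserves (EtCoh.stalk θ) (colimit.isColimit (D ⋙ EtShriek.lowerShriek f))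
      let h2 := isColimitOfPreserves (EtShriek.lowerShriek f ⋙ EtCoh.stalk θ) hc
      let e := h1.coconePointUniqueUpToIso h2
      have he : (EtCoh.stalk θ).map
          (colimit.desc (D ⋙ EtShriek.lowerShriek f) ((EtShriek.lowerShriek f).mapCocone c)) = e.hom :=
        h1.hom_ext fun i => ((((EtCoh.stalk θ).map_comp _ _).symm).trans
          (congrArg (EtCoh.stalk θ).map (colimit.ι_desc _ i))).trans
            (h1.comp_coconePointUniqueUpToIso_hom h2 i).symm
      rw [he]
      infer_instance
  haveI : IsIso ((colimit.isColimit (D ⋙ EtShriek.lowerShriek f)).desc ((EtShriek.lowerShriek f).mapCocone c)) :=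
    ‹IsIso (colimit.desc (D ⋙ EtShriek.lowerShriek f) ((EtShriek.lowerShriek f).mapCocone c))›
  exact ⟨IsColimit.ofPointIso (colimit.isColimit _)⟩

theorem isLeftAdjoint_lowerShriek : (EtShriek.lowerShriek f).IsLeftAdjoint := by
  haveI := preservesColimits_lowerShriek f
  exact isLeftAdjoint_of_preservesColimits_of_isSeparating (isSeparator_separator (EtCoh.Ab X)) _

end Groth.L27.Lqf
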