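import Groth.Agent.L27.ExtZero.Proper

/-! # Sections with proper support form a sheaf -/

universe u

open CategoryTheory CategoryTheory.Limits AlgebraicGeometry Opposite

set_option backward.isDefEq.respectTransparency.types false
set_option linter.style.haveILetI false
set_option linter.unusedSectionVars false
set_option linter.unusedVariables false

namespace Groth.L27.Supp

section General

variable {X : Scheme.{u}} (F : EtCoh.Ab X) {U V : X.Etale}

theorem supp_map_eq (g : V ⟶ U) (s : EtCoh.sect F U) :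
    EtShriek.sectSupp F V (F.obj.map g.op s) = g.left ⁻¹' EtShriek.sectSupp F U s := by
  refine Set.Subset.antisymm (supp_map F g s) fun x hx W k hw h0 => ?_
  obtain ⟨w, hw⟩ := hw
  refine hx W (k ≫ g) ⟨w, ?_⟩ ?_
  · refine (Scheme.Hom.comp_apply _ _ _).trans ?_
    rw [hw]
  · rw [op_comp, Functor.map_comp_apply, h0]

variable {S : Scheme.{u}}

theorem hasProperSupport_iff (s : EtCoh.sect F U) (g : U.left ⟶ S) :
    EtShriek.HasProperSupport F U s g ↔ ClSub.IsProperOver g (EtShriek.sectSupp F U s) :=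
  ⟨fun ⟨_, hZ, hp⟩ => isProperOver_of_subset g (isClosed_supp F s) hZ hp, fun h => ⟨_, subset_rfl, h⟩⟩

end General

variable {X Y : Scheme.{u}} (f : X ⟶ Y) (F : EtCoh.Ab X)

theorem locallyOfFiniteType_prV [LocallyOfFiniteType f] (V : Y.Etale) : LocallyOfFiniteType (EtShriek.prV f V) :=
  MorphismProperty.pullback_fst _ _ inferInstance

/-- A section over a base change has proper support over the base. -/
abbrev IsProperSect {V : Y.Etale} (s : EtCoh.sect F ((EtCoh.bc f).obj V)) : Prop :=
  ClSub.IsProperOver (EtShriek.prV f V) (EtShriek.sectSupp F ((EtCoh.bc f).obj V) s)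

theorem isProperSect_map {V V' : Y.Etale} (φ : V' ⟶ V) {s : EtCoh.sect F ((EtCoh.bc f).obj V)}
    (h : IsProperSect f F s) : IsProperSect f F (F.obj.map ((EtCoh.bc f).map φ).op s) := by
  show ClSub.IsProperOver _ _
  rw [supp_map_eq]
  exact isProperOver_preimage (EtCoh.isPullback_bc_map f φ) h

theorem shriekPred_iff {V : Y.Etale} (s : EtCoh.sect F ((EtCoh.bc f).obj V)) :
    EtShriek.ShriekPred f F V s ↔ IsProperSect f F s := by
  refine ⟨fun h => ?_, fun h V' φ => (hasProperSupport_iff F _ _).2 (isProperSect_map f F φ h)⟩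
  have h' := h V (𝟙 V)
  rw [CategoryTheory.Functor.map_id, op_id, CategoryTheory.Functor.map_id, ConcreteCategory.id_apply] at h'
  exact (hasProperSupport_iff F _ _).1 h'

variable [LocallyOfFiniteType f]

theorem mem_shriekSubgroup_iff {V : Y.Etale} (s : EtCoh.sect F ((EtCoh.bc f).obj V)) :
    s ∈ EtShriek.shriekSubgroup f F V ↔ IsProperSect f F s := by
  haveI := locallyOfFiniteType_prV f V
  refine ⟨fun h => ?_, fun h => AddSubgroup.subset_closure ((shriekPred_iff f F s).2 h)⟩
  refine AddSubgroup.closure_induction (p := fun x _ => IsProperSect f F x) (fun x hx => (shriekPred_iff f F x).1 hx)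
    ?_ (fun x y _ _ hx hy => ?_) (fun x _ hx => ?_) h
  · show ClSub.IsProperOver _ _
    rw [supp_zero]
    exact isProperOver_empty _
  · exact isProperOver_of_subset _ (isClosed_supp F _) (supp_add F x y) (isProperOver_union _ hx hy)
  · exact isProperOver_of_subset _ (isClosed_supp F _) (supp_neg F x) hx

theorem isProperSect_of_cover {V : Y.Etale} (s : EtCoh.sect F ((EtCoh.bc f).obj V))
    (h : ∀ x : V.left, ∃ (W : Y.Etale) (g : W ⟶ V) (w : W.left), g.left w = x ∧
      IsProperSect f F (F.obj.map ((EtCoh.bc f).map g).op s)) : IsProperSect f F s := by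
  haveI := locallyOfFiniteType_prV f V
  refine isProperOver_of_cover (isClosed_supp F s) fun x => ?_
  obtain ⟨W, g, w, hw, hp⟩ := h x
  refine ⟨_, _, g.left, ((EtCoh.bc f).map g).left, EtShriek.prV f W, EtSite.etale_left g,
    EtCoh.isPullback_bc_map f g, ⟨w, hw⟩, ?_⟩
  rw [← supp_map_eq]
  exact hp

theorem isSheaf_lowerShriekPre : Presheaf.IsSheaf Y.smallEtaleTopology (EtShriek.lowerShriekPre f F) := by
  rw [Presheaf.isSheaf_iff_isSheaf_forget Y.smallEtaleTopology _ (forget AddCommGrpCat.{u + 1}),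
    isSheaf_iff_isSheaf_of_type]
  intro V S hS x hx
  let G := ((EtCoh.push f).obj F).obj
  have hG : Presieve.IsSheaf Y.smallEtaleTopology (G ⋙ forget AddCommGrpCat.{u + 1}) :=
    (isSheaf_iff_isSheaf_of_type _ _).1
      ((Presheaf.isSheaf_iff_isSheaf_forget Y.smallEtaleTopology _ (forget AddCommGrpCat.{u + 1})).1
        ((EtCoh.push f).obj F).property)
  let y : Presieve.FamilyOfElements (G ⋙ forget AddCommGrpCat.{u + 1}) S.arrows := fun W g hg => (x g hg).1
  have hy : y.Compatible := fun W₁ W₂ Z g₁ g₂ k₁ k₂ h₁ h₂ e => congrArg Subtype.val (hx g₁ g₂ h₁ h₂ e)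
  obtain ⟨t, ht, huniq⟩ := hG S hS y hy
  have hmem : t ∈ EtShriek.shriekSubgroup f F V := by
    refine (mem_shriekSubgroup_iff f F t).2 (isProperSect_of_cover f F t fun p => ?_)
    obtain ⟨W, g, w, hg, hw⟩ := (EtSite.mem_topology_iff S).1 hS p
    refine ⟨W, g, w, hw, ?_⟩
    have e : F.obj.map ((EtCoh.bc f).map g).op t = (x g hg).1 := ht g hg
    rw [e]
    exact (mem_shriekSubgroup_iff f F _).1 (x g hg).2
  exact ⟨⟨t, hmem⟩, fun W g hg => Subtype.ext (ht g hg),
    fun t' ht' => Subtype.ext (huniq t'.1 fun W g hg => congrArg Subtype.val (ht' g hg))⟩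

/-- The sheaf of sections with proper support. -/
noncomputable def shriekSheaf : EtCoh.Ab Y :=
  ⟨EtShriek.lowerShriekPre f F, isSheaf_lowerShriekPre f F⟩

theorem isIso_toSheafify_shriek : IsIso (toSheafify Y.smallEtaleTopology (EtShriek.lowerShriekPre f F)) :=
  CategoryTheory.isIso_toSheafify _ (isSheaf_lowerShriekPre f F)

end Groth.L27.Supp
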