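import Groth.Agent.L27.ExtZero.ProperStage
import Groth.Agent.L27.ExtZero.ShriekSheaf
import Groth.Agent.L27.EtSite.Push
import Groth.Agent.L27.Colim.Etale
import Groth.Agent.L27.Colim.Sections

/-! # Direct image with proper support commutes with filtered colimits -/

universe u

open CategoryTheory CategoryTheory.Limits AlgebraicGeometry Opposite TopologicalSpace

set_option backward.isDefEq.respectTransparency.types false
set_option linter.style.haveILetI false
set_option linter.unusedSectionVars false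
set_option linter.unusedVariables false

namespace Groth.L27.Supp

section Glue

variable {X : Scheme.{u}} (F : EtCoh.Ab X)

theorem exists_glue_zero {U Q : X.Etale} (m : Q ⟶ U) [IsOpenImmersion m.left] (s : EtCoh.sect F Q)
    {C : Set U.left} (hC : IsClosed C) (hCQ : C ⊆ Set.range m.left)
    (hs : EtShriek.sectSupp F Q s ⊆ m.left ⁻¹' C) :
    ∃ t : EtCoh.sect F U, F.obj.map m.op t = s ∧ EtShriek.sectSupp F U t ⊆ C := by
  let O : U.left.Opens := ⟨Cᶜ, hC.isOpen_compl⟩
  haveI : Etale U.hom := U.prop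
  let R : X.Etale := Scheme.Etale.mk (O.ι ≫ U.hom)
  let r : R ⟶ U := MorphismProperty.Over.homMk O.ι rfl
  let V : Bool → X.Etale := fun b => Bool.rec R Q b
  let c : ∀ b, V b ⟶ U := fun b => match b with | false => r | true => m
  let G := (sheafCompose X.smallEtaleTopology (forget AddCommGrpCat.{u + 1})).obj F
  let y : ∀ b, G.obj.obj (op (V b)) := fun b => match b with | false => (0 : F.obj.obj (op R)) | true => s
  have hF := (isSheaf_iff_isSheaf_of_type _ _).1 G.property
  have hmem : Sieve.generate (Presieve.ofArrows V c) ∈ X.smallEtaleTopology U :=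
    (EtSite.mem_topology_iff _).2 fun x => by
      by_cases hx : x ∈ C
      · obtain ⟨q, hq⟩ := hCQ hx
        exact ⟨Q, m, q, ⟨Q, 𝟙 _, m, ⟨true⟩, Category.id_comp _⟩, hq⟩
      · exact ⟨R, r, ⟨x, hx⟩, ⟨R, 𝟙 _, r, ⟨false⟩, Category.id_comp _⟩, rfl⟩
  have key : ∀ (Z : X.Etale) (gq : Z ⟶ Q) (gr : Z ⟶ R), gq ≫ m = gr ≫ r → F.obj.map gq.op s = 0 := by
    intro Z gq gr e
    refine eq_zero_of_supp F _ fun z hz => ?_
    have h1 : m.left (gq.left z) ∈ C := hs (supp_map F gq s hz)
    have h2 : O.ι (gr.left z) ∈ (O : Set U.left) := by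
      have : O.ι (gr.left z) ∈ Set.range O.ι := ⟨_, rfl⟩
      rwa [Scheme.Opens.range_ι] at this
    have h3 : m.left (gq.left z) = O.ι (gr.left z) := congrArg (fun a : Z ⟶ U => a.left z) e
    exact h2 (h3 ▸ h1)
  have hcompat : Presieve.Arrows.Compatible G.obj c y := by
    intro i j Z gi gj hij
    cases i <;> cases j
    · exact (map_zero (F.obj.map gi.op).hom).trans (map_zero (F.obj.map gj.op).hom).symm
    · exact (map_zero (F.obj.map gi.op).hom).trans (key Z gj gi hij.symm).symm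
    · exact (key Z gi gj hij).trans (map_zero (F.obj.map gj.op).hom).symm
    · haveI : Mono m.left := inferInstance
      rw [show gi = gj from MorphismProperty.Over.Hom.ext
        ((cancel_mono m.left).mp (congrArg (fun f : Z ⟶ U => f.left) hij))]
  obtain ⟨t, ht, -⟩ := ((Presieve.isSheafFor_arrows_iff _ _).mp
    ((Presieve.isSheafFor_iff_generate _).mpr (hF _ hmem))) y hcompat
  refine ⟨t, ht true, fun x hx => by_contra fun hxC => ?_⟩
  exact hx R r ⟨⟨x, hxC⟩, rfl⟩ (ht false)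

theorem exists_qc_open {U : Scheme.{u}} {C : Set U} (hC : IsCompact C) :
    ∃ O : U.Opens, IsCompact (O : Set U) ∧ C ⊆ O := by
  obtain ⟨t, ht⟩ := hC.elim_finite_subcover (fun V : U.affineOpens => ((V.1 : U.Opens) : Set U))
    (fun V => V.1.2) (fun x _ => by
      obtain ⟨_, ⟨V, hV, rfl⟩, hxV, -⟩ :=
        U.isBasis_affineOpens.exists_subset_of_mem_open (Set.mem_univ x) isOpen_univ
      exact Set.mem_iUnion.2 ⟨⟨V, hV⟩, hxV⟩)
  refine ⟨⨆ V ∈ t, (V : U.affineOpens).1, ?_, ?_⟩
  · simp only [Opens.coe_iSup]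
    exact t.isCompact_biUnion fun V _ => V.2.isCompact
  · simpa only [Opens.coe_iSup] using ht

end Glue

variable {X Y : Scheme.{u}} (f : X ⟶ Y) [IsSeparated f] [LocallyOfFiniteType f]

theorem isCompact_of_isProperOver {U S : Scheme.{u}} {g : U ⟶ S} [CompactSpace S] {C : Set U}
    (h : ClSub.IsProperOver g C) : IsCompact C := by
  obtain ⟨hC, hp⟩ := h
  let ι := (Scheme.IdealSheafData.vanishingIdeal ⟨C, hC⟩).subschemeι
  haveI : IsProper (ι ≫ g) := hp
  haveI := QuasiCompact.compactSpace_of_compactSpace (ι ≫ g)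
  rw [← range_subscheme C hC]
  exact isCompact_range ι.continuous

/-- The neighbourhood of a proper subset used to descend sections. -/
theorem exists_nbhd {V : Y.Etale} [CompactSpace V.left] [QuasiSeparatedSpace V.left]
    {C : Set ((EtCoh.bc f).obj V).left} (hC : ClSub.IsProperOver (EtShriek.prV f V) C) :
    ∃ (Q : X.Etale) (m : Q ⟶ (EtCoh.bc f).obj V), IsOpenImmersion m.left ∧ Colim.Qcqs Q ∧
      C ⊆ Set.range m.left := by
  obtain ⟨O, hOc, hCO⟩ := exists_qc_open (isCompact_of_isProperOver hC)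
  haveI : Etale ((EtCoh.bc f).obj V).hom := ((EtCoh.bc f).obj V).prop
  haveI : IsSeparated (EtShriek.prV f V) := MorphismProperty.pullback_fst _ _ inferInstance
  haveI : QuasiSeparatedSpace ((EtCoh.bc f).obj V).left :=
    quasiSeparatedSpace_of_quasiSeparated (EtShriek.prV f V)
  let Q : X.Etale := Scheme.Etale.mk (O.ι ≫ ((EtCoh.bc f).obj V).hom)
  let m : Q ⟶ (EtCoh.bc f).obj V := MorphismProperty.Over.homMk O.ι rfl
  have hm : IsOpenImmersion m.left := inferInstanceAs (IsOpenImmersion O.ι)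
  refine ⟨Q, m, hm, ⟨isCompact_iff_compactSpace.1 hOc, O.ι.isOpenEmbedding.quasiSeparatedSpace⟩, ?_⟩
  exact hCO.trans (Scheme.Opens.range_ι O).symm.subset

variable {J : Type u} [SmallCategory J] [IsFiltered J] {D : J ⥤ EtCoh.Ab X} {c : Cocone D} (hc : IsColimit c)

include hc in
/-- A section with proper support killed in the colimit is killed at a stage. -/
theorem exists_stage_eq_zero {V : Y.Etale} [CompactSpace V.left] [QuasiSeparatedSpace V.left] (i : J)
    (s : EtCoh.sect (D.obj i) ((EtCoh.bc f).obj V)) (hs : IsProperSect f (D.obj i) s)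
    (h0 : (c.ι.app i).hom.app (op ((EtCoh.bc f).obj V)) s = 0) :
    ∃ (k : J) (g : i ⟶ k), (D.map g).hom.app (op ((EtCoh.bc f).obj V)) s = 0 := by
  obtain ⟨Q, m, hm, hQ, hsub⟩ := exists_nbhd f hs
  obtain ⟨k, g, hk⟩ := Colim.exists_map_eq_zero Colim.good hc hQ i ((D.obj i).obj.map m.op s)
    ((Colim.ι_nat i m s).trans ((congrArg _ h0).trans (map_zero _)))
  refine ⟨k, g, eq_zero_of_supp _ _ fun x hx => ?_⟩
  obtain ⟨q, hq⟩ := hsub (EtShriek.sectSupp_map_subset (D.map g) _ s hx)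
  refine hx Q m ⟨q, hq⟩ ?_
  exact (NatTrans.naturality_apply (D.map g).hom m.op s).symm.trans hk

include hc in
/-- A section with proper support of the colimit comes from a stage. -/
theorem exists_stage_rep {V : Y.Etale} [CompactSpace V.left] [QuasiSeparatedSpace V.left]
    (t : EtCoh.sect c.pt ((EtCoh.bc f).obj V)) (ht : IsProperSect f c.pt t) :
    ∃ (k : J) (s : EtCoh.sect (D.obj k) ((EtCoh.bc f).obj V)), IsProperSect f (D.obj k) s ∧
      (c.ι.app k).hom.app (op ((EtCoh.bc f).obj V)) s = t := by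
  obtain ⟨Q, m, hm, hQ, hsub⟩ := exists_nbhd f ht
  obtain ⟨i₀, y₀, hy₀⟩ := Colim.exists_rep Colim.good hc hQ (c.pt.obj.map m.op t)
  haveI : LocallyOfFiniteType (EtShriek.prV f V) := locallyOfFiniteType_prV f V
  haveI : IsSeparated (EtShriek.prV f V) := MorphismProperty.pullback_fst _ _ inferInstance
  haveI : CompactSpace Q.left := hQ.1
  haveI : QuasiSeparatedSpace Q.left := hQ.2
  let g : Q.left ⟶ V.left := m.left ≫ EtShriek.prV f V
  haveI : LocallyOfFiniteType g := inferInstance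
  haveI : IsSeparated g := inferInstance
  haveI : QuasiCompact g := quasiCompact_of_compactSpace g
  -- the support is proper inside the neighbourhood
  let CQ := m.left ⁻¹' EtShriek.sectSupp c.pt ((EtCoh.bc f).obj V) t
  have hCQ : ClSub.IsProperOver g CQ := by
    obtain ⟨hCc, hCp⟩ := ht
    let ι := (Scheme.IdealSheafData.vanishingIdeal
      ⟨EtShriek.sectSupp c.pt ((EtCoh.bc f).obj V) t, hCc⟩).subschemeι
    haveI : IsProper (ι ≫ EtShriek.prV f V) := hCp
    have hr : Set.range ι ⊆ Set.range m.left := (range_subscheme _ hCc).subset.trans hsub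
    let l := IsOpenImmersion.lift m.left ι hr
    have hl : l ≫ m.left = ι := IsOpenImmersion.lift_fac _ _ _
    haveI : IsClosedImmersion (l ≫ m.left) := hl.symm ▸ inferInstance
    haveI : IsClosedImmersion l := IsClosedImmersion.of_comp l m.left
    haveI : IsProper (l ≫ g) := by
      show IsProper (l ≫ m.left ≫ EtShriek.prV f V)
      rw [← Category.assoc, hl]
      infer_instance
    have hCr : CQ = Set.range l := by
      ext x
      change m.left x ∈ EtShriek.sectSupp c.pt ((EtCoh.bc f).obj V) t ↔ _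
      constructor
      · intro hx
        obtain ⟨z, hz⟩ := (range_subscheme _ hCc).symm.subset hx
        exact ⟨z, m.left.isOpenEmbedding.injective ((congr($hl z)).trans hz)⟩
      · rintro ⟨z, rfl⟩
        exact (range_subscheme _ hCc).subset ⟨z, (congr($hl z)).symm⟩
    rw [hCr]
    exact isProperOver_range_of_closedImmersion l g
  let κ := Σ k : J, (i₀ ⟶ k)
  let B : κ → Set Q.left := fun k => EtShriek.sectSupp (D.obj k.1) Q ((D.map k.2).hom.app (op Q) y₀)
  haveI : Nonempty κ := ⟨⟨i₀, 𝟙 _⟩⟩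
  have hdir : Directed (fun s t => s ⊇ t) B := by
    rintro ⟨a, ga⟩ ⟨b, gb⟩
    obtain ⟨k, ha, hb, -⟩ := IsFilteredOrEmpty.cocone_objs a b
    let e := IsFiltered.coeqHom (ga ≫ ha) (gb ≫ hb)
    refine ⟨⟨_, ga ≫ ha ≫ e⟩, ?_, ?_⟩
    · dsimp only [B]
      rw [← Colim.map_map ga (ha ≫ e)]
      exact EtShriek.sectSupp_map_subset _ _ _
    · dsimp only [B]
      rw [show ga ≫ ha ≫ e = gb ≫ hb ≫ e by
        rw [← Category.assoc, IsFiltered.coeq_condition, Category.assoc], ← Colim.map_map gb (hb ≫ e)]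
      exact EtShriek.sectSupp_map_subset _ _ _
  have hcap : ∀ x ∉ CQ, ∃ k, x ∉ B k := by
    intro x hx
    have hx' : m.left x ∉ EtShriek.sectSupp c.pt ((EtCoh.bc f).obj V) t := hx
    have hx'' : x ∉ EtShriek.sectSupp c.pt Q (c.pt.obj.map m.op t) := by rwa [supp_map_eq]
    simp only [EtShriek.sectSupp, Set.mem_ofPred_eq, not_forall, not_not] at hx''
    obtain ⟨W, w, ⟨p, hp⟩, hw⟩ := hx''
    obtain ⟨_, ⟨A, hA, rfl⟩, hpA, -⟩ :=
      W.left.isBasis_affineOpens.exists_subset_of_mem_open (Set.mem_univ p) isOpen_univ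
    haveI : Etale W.hom := W.prop
    let WA : X.Etale := Scheme.Etale.mk (Scheme.Opens.ι A ≫ W.hom)
    let a : WA ⟶ W := MorphismProperty.Over.homMk (Scheme.Opens.ι A) rfl
    haveI : IsAffine (Scheme.Opens.toScheme A) := hA
    have hWA : Colim.Qcqs WA :=
      ⟨inferInstanceAs (CompactSpace (Scheme.Opens.toScheme A)),
        inferInstanceAs (QuasiSeparatedSpace (Scheme.Opens.toScheme A))⟩
    obtain ⟨k, h, hk⟩ := Colim.exists_map_eq_zero Colim.good hc hWA i₀ ((D.obj i₀).obj.map (a ≫ w).op y₀) (by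
      refine (Colim.ι_nat i₀ (a ≫ w) y₀).trans ?_
      rw [hy₀, op_comp, Functor.map_comp_apply, hw, map_zero])
    refine ⟨⟨k, h⟩, fun hmem => hmem WA (a ≫ w) ⟨⟨p, hpA⟩, hp⟩ ?_⟩
    exact (NatTrans.naturality_apply (D.map h).hom (a ≫ w).op y₀).symm.trans hk
  obtain ⟨⟨k, h⟩, hk⟩ := exists_properStage g hCQ B (fun k => isClosed_supp _ _) hdir hcap
  let s₀ := (D.map h).hom.app (op Q) y₀
  let C' : Set ((EtCoh.bc f).obj V).left := m.left '' B ⟨k, h⟩
  have hC' : ClSub.IsProperOver (EtShriek.prV f V) C' := ((isProperOver_comp_iff m.left (EtShriek.prV f V)).1 hk).2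
  obtain ⟨s, hs, hsC⟩ := exists_glue_zero (D.obj k) m s₀ hC'.1 (Set.image_subset_range _ _)
    (fun x hx => ⟨x, hx, rfl⟩)
  refine ⟨k, s, isProperOver_of_subset _ (isClosed_supp _ _) hsC hC', ?_⟩
  refine EtSite.ext_of_locally c.pt fun x => ?_
  have hQ0 : c.pt.obj.map m.op ((c.ι.app k).hom.app (op ((EtCoh.bc f).obj V)) s) = c.pt.obj.map m.op t := by
    rw [← Colim.ι_nat k m s, hs, Colim.ι_map h y₀, hy₀]
  by_cases hxQ : x ∈ Set.range m.left
  · obtain ⟨q, hq⟩ := hxQ
    exact ⟨Q, m, q, hq, hQ0⟩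
  · have h1 : x ∉ EtShriek.sectSupp c.pt ((EtCoh.bc f).obj V) t := fun h => hxQ (hsub h)
    have h2 : x ∉ EtShriek.sectSupp c.pt ((EtCoh.bc f).obj V)
        ((c.ι.app k).hom.app (op ((EtCoh.bc f).obj V)) s) := fun h =>
      hxQ (Set.image_subset_range _ _ (hsC (EtShriek.sectSupp_map_subset (c.ι.app k) _ s h)))
    simp only [EtShriek.sectSupp, Set.mem_ofPred_eq, not_forall, not_not] at h1 h2
    obtain ⟨W₁, g₁, ⟨w₁, hw₁⟩, e₁⟩ := h1
    obtain ⟨W₂, g₂, ⟨w₂, hw₂⟩, e₂⟩ := h2
    obtain ⟨W, a, b, w, hwa, hwb, hab⟩ := EtSite.exists_common g₁ g₂ w₁ w₂ (hw₁.trans hw₂.symm)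
    refine ⟨W, a ≫ g₁, w, (Scheme.Hom.comp_apply _ _ _).trans ((congrArg g₁.left hwa).trans hw₁), ?_⟩
    conv_lhs => rw [hab]
    rw [op_comp, op_comp, Functor.map_comp_apply, Functor.map_comp_apply, e₁, e₂, map_zero, map_zero]

end Groth.L27.Supp
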