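import Groth.Agent.L27.ExtZero.Stalk
import Groth.Agent.L27.ExtZero.Restr
import Groth.Agent.L27.EtSite.Pull

/-! # Characterisation of the extension by zero along an open immersion -/

universe u

open CategoryTheory CategoryTheory.Limits AlgebraicGeometry Opposite

set_option backward.isDefEq.respectTransparency.types false
set_option linter.style.haveILetI false
set_option linter.unusedSectionVars false
set_option linter.unusedVariables false

namespace Groth.L27.ExtZero

variable {U X : Scheme.{u}} (j : U ⟶ X) [IsOpenImmersion j] [AlgebraicGeometry.Etale j] [EtShriek.JCont j]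

theorem isZero_stalk_extZero_of_outside {Ω : Type u} [Field Ω] [IsSepClosed Ω] (ξ : Spec (CommRingCat.of Ω) ⟶ X)
    (hξ : Set.range ξ.base ⊆ (Set.range j.base)ᶜ) (F : EtCoh.Ab U) :
    IsZero ((EtCoh.stalk ξ).obj ((EtShriek.extZero j).obj F)) := by
  refine IsZero.of_iso ?_ (stalkIso j ξ F)
  haveI : IsEmpty (PtLift j ξ) := ⟨fun v => hξ ⟨default, rfl⟩
    ⟨v.1.base default, congr($(v.2) default)⟩⟩
  exact (IsZero.iff_id_eq_zero _).2 (Sigma.hom_ext _ _ fun v => isEmptyElim v)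

theorem isIso_of_restrAlong {G G' : EtCoh.Ab X} (a : G ⟶ G') [IsIso ((EtShriek.restrAlong j).map a)]
    (h : ∀ (Ω : Type u) [Field Ω] [IsSepClosed Ω] (ξ : Spec (CommRingCat.of Ω) ⟶ X),
      Set.range ξ.base ⊆ (Set.range j.base)ᶜ → IsZero ((EtCoh.stalk ξ).obj G) ∧ IsZero ((EtCoh.stalk ξ).obj G')) :
    IsIso a := by
  haveI : IsIso ((EtCoh.pull j).map a) := (NatIso.isIso_map_iff (pullRestr j) a).2 inferInstance
  have key : ∀ (Ω : Type u) [Field Ω] [IsSepClosed Ω] (ξ : Spec (CommRingCat.of Ω) ⟶ X),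
      IsIso ((EtCoh.stalk ξ).map a) := by
    intro Ω _ _ ξ
    by_cases hx : ξ.base default ∈ Set.range j.base
    · have hr : Set.range ξ ⊆ Set.range j := by
        rintro - ⟨z, rfl⟩; rwa [Subsingleton.elim z default]
      obtain ⟨v, rfl⟩ : ∃ v, v ≫ j = ξ := ⟨IsOpenImmersion.lift j ξ hr, IsOpenImmersion.lift_fac j ξ hr⟩
      exact (NatIso.isIso_map_iff (EtSite.stalkPullIso j v) a).1
        (inferInstanceAs (IsIso ((EtCoh.stalk v).map ((EtCoh.pull j).map a))))
    · obtain ⟨h1, h2⟩ := h Ω ξ (by rintro - ⟨z, rfl⟩; rwa [Subsingleton.elim z default])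
      exact ⟨⟨0, h1.eq_of_src _ _, h2.eq_of_src _ _⟩⟩
  haveI : Mono a := (EtSite.mono_iff_stalks a).2 fun Ω _ _ ξ =>
    haveI := key Ω ξ
    (ConcreteCategory.bijective_of_isIso ((EtCoh.stalk ξ).map a)).1
  haveI : Epi a := (EtSite.epi_iff_stalks a).2 fun Ω _ _ ξ =>
    haveI := key Ω ξ
    (ConcreteCategory.bijective_of_isIso ((EtCoh.stalk ξ).map a)).2
  exact isIso_of_mono_of_epi a

theorem nonempty_iso_extZero (F : EtCoh.Ab U) (G : EtCoh.Ab X) (hres : Nonempty ((EtShriek.restrAlong j).obj G ≅ F))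
    (hzero : ∀ (Ω : Type u) [Field Ω] [IsSepClosed Ω] (ξ : Spec (CommRingCat.of Ω) ⟶ X),
      Set.range ξ.base ⊆ (Set.range j.base)ᶜ → IsZero ((EtCoh.stalk ξ).obj G)) :
    Nonempty (G ≅ (EtShriek.extZero j).obj F) := by
  obtain ⟨e⟩ := hres
  let a : (EtShriek.extZero j).obj F ⟶ G := ((EtShriek.extZeroAdj j).homEquiv F G).symm e.inv
  haveI := (isIso_counit_of_mono j).2
  haveI : IsIso ((EtShriek.restrAlong j).map a) := by
    have h : (EtShriek.extZeroAdj j).unit.app F ≫ (EtShriek.restrAlong j).map a = e.inv :=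
      ((EtShriek.extZeroAdj j).homEquiv_unit _ _ a).symm.trans (Equiv.apply_symm_apply _ _)
    haveI : IsIso ((EtShriek.extZeroAdj j).unit.app F ≫ (EtShriek.restrAlong j).map a) := h ▸ inferInstance
    exact IsIso.of_isIso_comp_left ((EtShriek.extZeroAdj j).unit.app F) _
  haveI := isIso_of_restrAlong j a fun Ω _ _ ξ hξ => ⟨isZero_stalk_extZero_of_outside j ξ hξ F, hzero Ω ξ hξ⟩
  exact ⟨(asIso a).symm⟩

end Groth.L27.ExtZero
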