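import Groth.Agent.L27.ExtZero.Exact
import Groth.Prelude.Def_EtBase
import Mathlib.CategoryTheory.Sites.Point.Skyscraper

/-! # Stalks of extensions by zero -/

universe u

open CategoryTheory CategoryTheory.Limits AlgebraicGeometry Opposite

set_option backward.isDefEq.respectTransparency.types false
set_option linter.style.haveILetI false
set_option linter.unusedSectionVars false
set_option linter.unusedVariables false

namespace Groth.L27.ExtZero

variable {U X : Scheme.{u}} (j : U ⟶ X) [hj : Etale j] {Ω : Type u} [Field Ω] [IsSepClosed Ω]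
  (ξ : Spec (CommRingCat.of Ω) ⟶ X)

/-- The lifts of a geometric point. -/
abbrev PtLift : Type u := { v : Spec (CommRingCat.of Ω) ⟶ U // v ≫ j = ξ }

/-- A fibre element over a lift gives one over the point. -/
noncomputable def fibIncl (v : PtLift j ξ) (T : U.Etale) (z : (Scheme.pointSmallEtale v.1).fiber.obj T) :
    (Scheme.pointSmallEtale ξ).fiber.obj ((EtShriek.compEtale j).obj T) :=
  Over.homMk z.left ((Category.assoc _ _ _).symm.trans ((congrArg (· ≫ j) (Over.w z)).trans v.2))

/-- The lift underlying a fibre element. -/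
noncomputable def fibPt (T : U.Etale) (y : (Scheme.pointSmallEtale ξ).fiber.obj ((EtShriek.compEtale j).obj T)) :
    PtLift j ξ :=
  ⟨y.left ≫ T.hom, (Category.assoc _ _ _).trans (Over.w y)⟩

/-- The fibre element over the underlying lift. -/
noncomputable def fibElt (T : U.Etale) (y : (Scheme.pointSmallEtale ξ).fiber.obj ((EtShriek.compEtale j).obj T)) :
    (Scheme.pointSmallEtale (fibPt j ξ T y).1).fiber.obj T :=
  Over.homMk y.left rfl

theorem skyMap_π {Y : Scheme.{u}} (η : Spec (CommRingCat.of Ω) ⟶ Y) (M : AddCommGrpCat.{u + 1}) {T T' : Y.Etaleᵒᵖ}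
    (m : T ⟶ T') (z : (Scheme.pointSmallEtale η).fiber.obj T'.unop) :
    ((Scheme.pointSmallEtale η).skyscraperSheaf M).obj.map m ≫
        Pi.π (fun _ : (Scheme.pointSmallEtale η).fiber.obj T'.unop => M) z =
      Pi.π (fun _ : (Scheme.pointSmallEtale η).fiber.obj T.unop => M)
        ((Scheme.pointSmallEtale η).fiber.map m.unop z) :=
  (Pi.map'_comp_π _ _ _).trans (Category.comp_id _)

theorem skyFun_π {Y : Scheme.{u}} (η : Spec (CommRingCat.of Ω) ⟶ Y) {M N : AddCommGrpCat.{u + 1}} (g : M ⟶ N)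
    (T : Y.Etaleᵒᵖ) (z : (Scheme.pointSmallEtale η).fiber.obj T.unop) :
    ((Scheme.pointSmallEtale η).skyscraperSheafFunctor.map g).hom.app T ≫
        Pi.π (fun _ : (Scheme.pointSmallEtale η).fiber.obj T.unop => N) z =
      Pi.π (fun _ : (Scheme.pointSmallEtale η).fiber.obj T.unop => M) z ≫ g :=
  Pi.map_π (f := fun _ : (Scheme.pointSmallEtale η).fiber.obj T.unop => M)
    (g := fun _ : (Scheme.pointSmallEtale η).fiber.obj T.unop => N) (fun _ => g) z

variable [EtShriek.JCont j]

/-- The projection of a restricted skyscraper. -/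
noncomputable def skyProj (v : PtLift j ξ) (M : AddCommGrpCat.{u + 1}) :
    (EtShriek.restrAlong j).obj ((Scheme.pointSmallEtale ξ).skyscraperSheaf M) ⟶
      (Scheme.pointSmallEtale v.1).skyscraperSheaf M :=
  ⟨{ app := fun T => Pi.lift fun z => Pi.π (fun _ : (Scheme.pointSmallEtale ξ).fiber.obj
        ((EtShriek.compEtale j).obj T.unop) => M) (fibIncl j ξ v T.unop z)
     naturality := fun {T T'} m => by
       refine Pi.hom_ext _ _ fun z => ?_
       refine (Category.assoc _ _ _).trans ((congrArg (_ ≫ ·) (Pi.lift_π _ z)).trans ?_)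
       refine (skyMap_π ξ M ((EtShriek.compEtale j).op.map m) _).trans ?_
       refine Eq.trans ?_ (Category.assoc _ _ _).symm
       refine Eq.trans ?_ (congrArg (_ ≫ ·) (skyMap_π v.1 M m z)).symm
       refine Eq.trans ?_ (Pi.lift_π (fun z' : (Scheme.pointSmallEtale v.1).fiber.obj T.unop =>
         Pi.π (fun _ : (Scheme.pointSmallEtale ξ).fiber.obj ((EtShriek.compEtale j).obj T.unop) => M)
           (fibIncl j ξ v T.unop z')) ((Scheme.pointSmallEtale v.1).fiber.map m.unop z)).symm
       exact congrArg (Pi.π _) (Over.OverMorphism.ext rfl) }⟩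

theorem app_π_congr {F : EtCoh.Ab U} {M : AddCommGrpCat.{u + 1}}
    (ψ : ∀ v : PtLift j ξ, F ⟶ (Scheme.pointSmallEtale v.1).skyscraperSheaf M) {v v' : PtLift j ξ} (T : U.Etale)
    (z : (Scheme.pointSmallEtale v.1).fiber.obj T) (z' : (Scheme.pointSmallEtale v'.1).fiber.obj T)
    (e : v = v') (hz : z.left = z'.left) :
    (ψ v).hom.app (op T) ≫ Pi.π (fun _ : (Scheme.pointSmallEtale v.1).fiber.obj T => M) z =
      (ψ v').hom.app (op T) ≫ Pi.π (fun _ : (Scheme.pointSmallEtale v'.1).fiber.obj T => M) z' := by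
  subst e
  rw [show z = z' from Over.OverMorphism.ext hz]

/-- Assembling a map into a restricted skyscraper. -/
noncomputable def skyGlue {F : EtCoh.Ab U} {M : AddCommGrpCat.{u + 1}}
    (ψ : ∀ v : PtLift j ξ, F ⟶ (Scheme.pointSmallEtale v.1).skyscraperSheaf M) :
    F ⟶ (EtShriek.restrAlong j).obj ((Scheme.pointSmallEtale ξ).skyscraperSheaf M) :=
  ⟨{ app := fun T => Pi.lift fun y => (ψ (fibPt j ξ T.unop y)).hom.app T ≫
        Pi.π (fun _ : (Scheme.pointSmallEtale (fibPt j ξ T.unop y).1).fiber.obj T.unop => M) (fibElt j ξ T.unop y)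
     naturality := fun {T T'} m => by
       refine Pi.hom_ext _ _ fun y => ?_
       refine (Category.assoc _ _ _).trans ((congrArg (_ ≫ ·) (Pi.lift_π _ y)).trans ?_)
       refine (Category.assoc _ _ _).symm.trans ((congrArg (· ≫ _)
         ((ψ (fibPt j ξ T'.unop y)).hom.naturality m)).trans ?_)
       refine (Category.assoc _ _ _).trans ((congrArg (_ ≫ ·) (skyMap_π _ M m _)).trans ?_)
       refine Eq.trans ?_ (Category.assoc _ _ _).symm
       refine Eq.trans ?_ (congrArg (_ ≫ ·) (skyMap_π ξ M ((EtShriek.compEtale j).op.map m) y)).symm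
       refine Eq.trans ?_ (Pi.lift_π (fun y' : (Scheme.pointSmallEtale ξ).fiber.obj ((EtShriek.compEtale j).obj T.unop) =>
         (ψ (fibPt j ξ T.unop y')).hom.app T ≫
           Pi.π (fun _ : (Scheme.pointSmallEtale (fibPt j ξ T.unop y').1).fiber.obj T.unop => M) (fibElt j ξ T.unop y'))
         ((Scheme.pointSmallEtale ξ).fiber.map ((EtShriek.compEtale j).map m.unop) y)).symm
       refine app_π_congr j ξ ψ T.unop _ _ ?_ rfl
       exact Subtype.ext ((congrArg (y.left ≫ ·) (MorphismProperty.Over.w m.unop).symm).trans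
         (Category.assoc _ _ _).symm) }⟩

/-- Maps into a restricted skyscraper. -/
noncomputable def skyEquiv (F : EtCoh.Ab U) (M : AddCommGrpCat.{u + 1}) :
    (F ⟶ (EtShriek.restrAlong j).obj ((Scheme.pointSmallEtale ξ).skyscraperSheaf M)) ≃
      ∀ v : PtLift j ξ, F ⟶ (Scheme.pointSmallEtale v.1).skyscraperSheaf M where
  toFun φ v := φ ≫ skyProj j ξ v M
  invFun := skyGlue j ξ
  left_inv φ := ObjectProperty.hom_ext _ (NatTrans.ext (funext fun T => Pi.hom_ext _ _ fun y =>
    (Pi.lift_π _ y).trans ((Category.assoc _ _ _).trans ((congrArg (φ.hom.app T ≫ ·) (Pi.lift_π _ _)).trans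
      (congrArg (fun z => φ.hom.app T ≫ Pi.π _ z) (Over.OverMorphism.ext rfl))))))
  right_inv ψ := funext fun v => ObjectProperty.hom_ext _ (NatTrans.ext (funext fun T => Pi.hom_ext _ _ fun z =>
    (Category.assoc _ _ _).trans ((congrArg (_ ≫ ·) (Pi.lift_π _ z)).trans ((Pi.lift_π _ _).trans
      (app_π_congr j ξ ψ T.unop _ _ (Subtype.ext (Over.w z)) rfl)))))

theorem skyProj_naturality (v : PtLift j ξ) {M N : AddCommGrpCat.{u + 1}} (g : M ⟶ N) :
    (EtShriek.restrAlong j).map ((Scheme.pointSmallEtale ξ).skyscraperSheafFunctor.map g) ≫ skyProj j ξ v N =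
      skyProj j ξ v M ≫ (Scheme.pointSmallEtale v.1).skyscraperSheafFunctor.map g := by
  refine ObjectProperty.hom_ext _ (NatTrans.ext (funext fun T => Pi.hom_ext _ _ fun z => ?_))
  refine (Category.assoc _ _ _).trans ((congrArg (_ ≫ ·) (Pi.lift_π _ z)).trans ?_)
  refine (skyFun_π ξ g ((EtShriek.compEtale j).op.obj T) _).trans ?_
  refine Eq.trans ?_ (Category.assoc _ _ _).symm
  refine Eq.trans ?_ (congrArg (_ ≫ ·) (skyFun_π v.1 g T z)).symm
  exact (congrArg (· ≫ g) (Pi.lift_π _ z)).symm.trans (Category.assoc _ _ _)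

variable (F : EtCoh.Ab U)

/-- The family of stalks. -/
noncomputable abbrev stalks (v : PtLift j ξ) : AddCommGrpCat.{u + 1} := (EtCoh.stalk v.1).obj F

/-- Maps out of the stalk of an extension by zero. -/
noncomputable def stalkHom (M : AddCommGrpCat.{u + 1}) :
    ((EtCoh.stalk ξ).obj ((EtShriek.extZero j).obj F) ⟶ M) ≃ (∐ stalks j ξ F ⟶ M) :=
  (((Scheme.pointSmallEtale ξ).skyscraperSheafAdjunction.homEquiv _ M).trans
    (((EtShriek.extZeroAdj j).homEquiv _ _).trans ((skyEquiv j ξ F M).trans (Equiv.piCongrRight fun v =>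
      ((Scheme.pointSmallEtale v.1).skyscraperSheafAdjunction.homEquiv F M).symm)))).trans
    { toFun := Sigma.desc
      invFun := fun h v => Sigma.ι (stalks j ξ F) v ≫ h
      left_inv := fun h => funext fun v => Sigma.ι_desc h v
      right_inv := fun h => Sigma.hom_ext _ _ fun v => Sigma.ι_desc _ v }

theorem stalkHom_comp {M N : AddCommGrpCat.{u + 1}}
    (a : (EtCoh.stalk ξ).obj ((EtShriek.extZero j).obj F) ⟶ M) (g : M ⟶ N) :
    stalkHom j ξ F N (a ≫ g) = stalkHom j ξ F M a ≫ g := by
  refine Sigma.hom_ext _ _ fun v => ?_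
  refine (Sigma.ι_desc _ v).trans (Eq.trans ?_ (Category.assoc _ _ _))
  refine Eq.trans ?_ (congrArg (· ≫ g) (Sigma.ι_desc _ v)).symm
  show ((Scheme.pointSmallEtale v.1).skyscraperSheafAdjunction.homEquiv F N).symm
      ((EtShriek.extZeroAdj j).homEquiv _ _ ((Scheme.pointSmallEtale ξ).skyscraperSheafAdjunction.homEquiv _ N (a ≫ g)) ≫
        skyProj j ξ v N) =
    ((Scheme.pointSmallEtale v.1).skyscraperSheafAdjunction.homEquiv F M).symm
      ((EtShriek.extZeroAdj j).homEquiv _ _ ((Scheme.pointSmallEtale ξ).skyscraperSheafAdjunction.homEquiv _ M a) ≫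
        skyProj j ξ v M) ≫ g
  rw [← Adjunction.homEquiv_naturality_right_symm]
  refine congrArg _ ?_
  rw [Adjunction.homEquiv_naturality_right, Adjunction.homEquiv_naturality_right, Category.assoc,
    skyProj_naturality, Category.assoc]

/-- The stalk of an extension by zero. -/
noncomputable def stalkIso : (EtCoh.stalk ξ).obj ((EtShriek.extZero j).obj F) ≅ ∐ stalks j ξ F where
  hom := (stalkHom j ξ F _).symm (𝟙 _)
  inv := stalkHom j ξ F _ (𝟙 _)
  hom_inv_id := (stalkHom j ξ F _).injective (by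
    rw [stalkHom_comp, Equiv.apply_symm_apply, Category.id_comp])
  inv_hom_id := by rw [← stalkHom_comp, Category.id_comp, Equiv.apply_symm_apply]

end Groth.L27.ExtZero
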