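import Groth.Agent.L27.ExtZero.ShriekSheaf
import Groth.Agent.L27.ExtZero.Stalk
import Groth.Agent.L27.ExtZero.Cont
import Groth.Agent.L27.EtSite.Push

/-! # Extension of sections by zero and transfer of germs -/

universe u

open CategoryTheory CategoryTheory.Limits AlgebraicGeometry Opposite

set_option backward.isDefEq.respectTransparency.types false
set_option linter.style.haveILetI false
set_option linter.unusedSectionVars false
set_option linter.unusedVariables false

namespace Groth.L27.Supp

theorem exists_extension {X : Scheme.{u}} (F : EtCoh.Ab X) {U Q : X.Etale} (k : Q ⟶ U) [IsOpenImmersion k.left]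
    (hcl : IsClosed (Set.range k.left)) (s : EtCoh.sect F Q) :
    ∃ t : EtCoh.sect F U, F.obj.map k.op t = s ∧ EtShriek.sectSupp F U t ⊆ Set.range k.left := by
  let O : U.left.Opens := ⟨(Set.range k.left)ᶜ, hcl.isOpen_compl⟩
  haveI : Etale U.hom := U.prop
  let R : X.Etale := Scheme.Etale.mk (O.ι ≫ U.hom)
  let r : R ⟶ U := MorphismProperty.Over.homMk O.ι rfl
  let V : Bool → X.Etale := fun b => Bool.rec R Q b
  let c : ∀ b, V b ⟶ U := fun b => match b with | false => r | true => k
  haveI : ∀ b, IsOpenImmersion (c b).left := fun b => by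
    cases b
    · exact inferInstanceAs (IsOpenImmersion O.ι)
    · exact inferInstanceAs (IsOpenImmersion k.left)
  have hd : Pairwise fun a b => Disjoint (Set.range (c a).left) (Set.range (c b).left) := by
    have h : Disjoint (Set.range r.left) (Set.range k.left) := by
      show Disjoint (Set.range O.ι) _
      rw [Scheme.Opens.range_ι]
      exact disjoint_compl_left
    intro a b hab
    cases a <;> cases b
    · exact absurd rfl hab
    · exact h
    · exact h.symm
    · exact absurd rfl hab
  have hc : ∀ x, ∃ b y, (c b).left y = x := fun x => by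
    by_cases hx : x ∈ Set.range k.left
    · obtain ⟨y, hy⟩ := hx
      exact ⟨true, y, hy⟩
    · exact ⟨false, ⟨x, hx⟩, rfl⟩
  obtain ⟨t, ht⟩ := (EtSite.bijective_of_disjoint
    ((sheafCompose X.smallEtaleTopology (forget AddCommGrpCat.{u + 1})).obj F) V c hd hc).2
    (fun i => match i with | false => (0 : F.obj.obj (op R)) | true => s)
  refine ⟨t, congrFun ht true, fun x hx => by_contra fun hxk => ?_⟩
  exact hx R r ⟨⟨x, hxk⟩, rfl⟩ (congrFun ht false)

section Transfer

variable {U X : Scheme.{u}} (j : U ⟶ X) [hj : Etale j] [EtShriek.JCont j] {Ω : Type u} [Field Ω] [IsSepClosed Ω]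
  (ξ : Spec (CommRingCat.of Ω) ⟶ X) (v : ExtZero.PtLift j ξ) (F : EtCoh.Ab X)

theorem fibIncl_map {T T' : U.Etale} (m : T ⟶ T') (z : (Scheme.pointSmallEtale v.1).fiber.obj T) :
    (Scheme.pointSmallEtale ξ).fiber.map ((EtShriek.compEtale j).map m) (ExtZero.fibIncl j ξ v T z) =
      ExtZero.fibIncl j ξ v T' ((Scheme.pointSmallEtale v.1).fiber.map m z) :=
  Over.OverMorphism.ext rfl

/-- Germs of a restriction give germs of the sheaf. -/
noncomputable def transfer :
    (EtCoh.stalk v.1).obj ((EtShriek.restrAlong j).obj F) ⟶ (EtCoh.stalk ξ).obj F :=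
  (Scheme.pointSmallEtale v.1).presheafFiberDesc (P := (EtShriek.compEtale j).op ⋙ F.obj)
    (fun T z => (Scheme.pointSmallEtale ξ).toPresheafFiber ((EtShriek.compEtale j).obj T) (ExtZero.fibIncl j ξ v T z) F.obj)
    (fun T T' m z => ((Scheme.pointSmallEtale ξ).toPresheafFiber_w ((EtShriek.compEtale j).map m) _ F.obj).trans
      (congrArg (fun q => (Scheme.pointSmallEtale ξ).toPresheafFiber _ q F.obj) (fibIncl_map j ξ v m z)))

theorem transfer_germ (T : U.Etale) (z : (Scheme.pointSmallEtale v.1).fiber.obj T)
    (s : F.obj.obj (op ((EtShriek.compEtale j).obj T))) :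
    transfer j ξ v F ((Scheme.pointSmallEtale v.1).toPresheafFiber T z ((EtShriek.compEtale j).op ⋙ F.obj) s) =
      (Scheme.pointSmallEtale ξ).toPresheafFiber ((EtShriek.compEtale j).obj T) (ExtZero.fibIncl j ξ v T z) F.obj s :=
  ConcreteCategory.congr_hom (GrothendieckTopology.Point.toPresheafFiber_presheafFiberDesc
    (Scheme.pointSmallEtale v.1) (P := (EtShriek.compEtale j).op ⋙ F.obj) _ _ T z) s

theorem transfer_surjective : Function.Surjective (transfer j ξ v F) := by
  intro a
  obtain ⟨W, z, s, rfl⟩ := (Scheme.pointSmallEtale ξ).toPresheafFiber_jointly_surjective (P := F.obj) a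
  let W' : U.Etale := (EtCoh.bc j).obj W
  let ε : (EtShriek.compEtale j).obj W' ⟶ W := MorphismProperty.Over.homMk
    (pullback.fst W.hom j : W'.left ⟶ W.left) pullback.condition
  let z' : (Scheme.pointSmallEtale v.1).fiber.obj W' :=
    Over.homMk (pullback.lift z.left v.1 ((Over.w z).trans v.2.symm)) (pullback.lift_snd _ _ _)
  refine ⟨(Scheme.pointSmallEtale v.1).toPresheafFiber W' z' ((EtShriek.compEtale j).op ⋙ F.obj) (F.obj.map ε.op s), ?_⟩
  rw [transfer_germ, GrothendieckTopology.Point.toPresheafFiber_w_apply]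
  exact congrArg (fun q => (Scheme.pointSmallEtale ξ).toPresheafFiber W q F.obj s)
    (Over.OverMorphism.ext (pullback.lift_fst z.left v.1 _))

end Transfer

end Groth.L27.Supp
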