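import Groth.Agent.L27.ExtZero.Extension
import Groth.Agent.L27.EtSite.PushFinite

/-! # Germs of sections with proper support for locally quasi-finite morphisms -/

universe u

open CategoryTheory CategoryTheory.Limits AlgebraicGeometry Opposite

set_option backward.isDefEq.respectTransparency.types false
set_option linter.style.haveILetI false
set_option linter.unusedSectionVars false
set_option linter.unusedVariables false

namespace Groth.L27.Lqf

variable {X Y : Scheme.{u}} (f : X ⟶ Y) {Ω : Type u} [Field Ω] [IsSepClosed Ω]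
  (η : Spec (CommRingCat.of Ω) ⟶ Y) (F : EtCoh.Ab X)

/-- The lifts of a geometric point. -/
abbrev Lift : Type u := {ξ : Spec (CommRingCat.of Ω) ⟶ X // ξ ≫ f = η}

/-- The germ of a section with proper support at a lift. -/
noncomputable def retrL (v : Lift f η) :
    ((Scheme.pointSmallEtale η).presheafFiber (A := AddCommGrpCat.{u + 1})).obj (EtShriek.lowerShriekPre f F) ⟶
      (EtCoh.stalk v.1).obj F :=
  (Scheme.pointSmallEtale η).presheafFiberDesc (P := EtShriek.lowerShriekPre f F)
    (fun V y => (EtShriek.lowerShriekPreι f F).app (op V) ≫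
      (Scheme.pointSmallEtale v.1).toPresheafFiber ((EtCoh.bc f).obj V) (EtSite.PushFinite.pt f v V y) F.obj)
    fun V W a y => by
      refine (Category.assoc _ _ _).symm.trans ((congrArg (· ≫ _)
        ((EtShriek.lowerShriekPreι f F).naturality a.op)).trans ((Category.assoc _ _ _).trans ?_))
      refine congrArg (_ ≫ ·) ?_
      exact ((Scheme.pointSmallEtale v.1).toPresheafFiber_w ((EtCoh.bc f).map a) _ F.obj).trans
        (congrArg (fun q => (Scheme.pointSmallEtale v.1).toPresheafFiber _ q F.obj) (EtSite.PushFinite.map_pt f v a y))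

theorem retrL_germ (v : Lift f η) (V : Y.Etale) (y : (Scheme.pointSmallEtale η).fiber.obj V)
    (t : EtShriek.shriekSubgroup f F V) :
    retrL f η F v ((Scheme.pointSmallEtale η).toPresheafFiber V y (EtShriek.lowerShriekPre f F) t) =
      (Scheme.pointSmallEtale v.1).toPresheafFiber ((EtCoh.bc f).obj V) (EtSite.PushFinite.pt f v V y) F.obj t.1 :=
  ConcreteCategory.congr_hom (GrothendieckTopology.Point.toPresheafFiber_presheafFiberDesc
    (Scheme.pointSmallEtale η) (P := EtShriek.lowerShriekPre f F) _ _ V y) t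

theorem retrL_naturality (v : Lift f η) {G : EtCoh.Ab X} (α : F ⟶ G) :
    ((Scheme.pointSmallEtale η).presheafFiber (A := AddCommGrpCat.{u + 1})).map
        ((EtShriek.lowerShriekPreFunctor f).map α) ≫ retrL f η G v =
      retrL f η F v ≫ (EtCoh.stalk v.1).map α := by
  refine (Scheme.pointSmallEtale η).presheafFiber_hom_ext (P := EtShriek.lowerShriekPre f F) fun V y => ?_
  refine ConcreteCategory.hom_ext _ _ fun (t : EtShriek.shriekSubgroup f F V) => ?_
  refine (congrArg (retrL f η G v) (GrothendieckTopology.Point.toPresheafFiber_naturality_apply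
    (Φ := Scheme.pointSmallEtale η) ((EtShriek.lowerShriekPreFunctor f).map α) V y t)).trans ?_
  refine (retrL_germ f η G v V y _).trans ?_
  refine Eq.trans ?_ (congrArg ((EtCoh.stalk v.1).map α) (retrL_germ f η F v V y t)).symm
  exact (GrothendieckTopology.Point.toPresheafFiber_naturality_apply
    (Φ := Scheme.pointSmallEtale v.1) α.hom ((EtCoh.bc f).obj V) (EtSite.PushFinite.pt f v V y) t.1).symm

theorem retrL_eq_zero_of_notMem {v : Lift f η} {V : Y.Etale} {y : (Scheme.pointSmallEtale η).fiber.obj V}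
    {t : EtShriek.shriekSubgroup f F V}
    (h : (EtSite.PushFinite.pt f v V y).left (default : Spec (CommRingCat.of Ω)) ∉
      EtShriek.sectSupp F ((EtCoh.bc f).obj V) t.1) :
    retrL f η F v ((Scheme.pointSmallEtale η).toPresheafFiber V y (EtShriek.lowerShriekPre f F) t) = 0 := by
  have h' : ∃ (W : X.Etale) (g : W ⟶ (EtCoh.bc f).obj V) (w : W.left),
      g.left w = (EtSite.PushFinite.pt f v V y).left (default : Spec (CommRingCat.of Ω)) ∧ F.obj.map g.op t.1 = 0 := by
    by_contra hc
    exact h fun W g ⟨w, hw⟩ h0 => hc ⟨W, g, w, hw, h0⟩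
  obtain ⟨W, g, w, hw, hz⟩ := h'
  haveI := EtSite.etale_left g
  obtain ⟨q, -⟩ := EtSite.exists_fiber (X := ((EtCoh.bc f).obj V).left) (EtSite.PushFinite.pt f v V y).left
    (Scheme.Etale.mk g.left) w hw
  have hq : q.left ≫ g.left = (EtSite.PushFinite.pt f v V y).left := Over.w q
  let w' : (Scheme.pointSmallEtale v.1).fiber.obj W := Over.homMk q.left
    ((congrArg (q.left ≫ ·) (MorphismProperty.Over.w g).symm).trans
      ((Category.assoc _ _ _).symm.trans ((congrArg (· ≫ _) hq).trans (Over.w (EtSite.PushFinite.pt f v V y)))))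
  refine (retrL_germ f η F v V y t).trans ?_
  rw [← show (Scheme.pointSmallEtale v.1).fiber.map g w' = EtSite.PushFinite.pt f v V y from Over.OverMorphism.ext hq,
    ← GrothendieckTopology.Point.toPresheafFiber_w_apply, hz, map_zero]
  rfl

variable [LocallyOfFiniteType f] [LocallyQuasiFinite f]

theorem goodSupp {V : Y.Etale} (t : EtShriek.shriekSubgroup f F V) :
    Supp.GoodSupp F (U := (EtCoh.bc f).obj V) t.1 (EtShriek.prV f V) := by
  haveI : LocallyQuasiFinite (EtShriek.prV f V) := MorphismProperty.pullback_fst _ _ inferInstance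
  exact Supp.goodSupp_of_hasProperSupport F
    ((Supp.hasProperSupport_iff F _ _).2 ((Supp.mem_shriekSubgroup_iff f F t.1).1 t.2))

theorem finite_retrL (p : ((Scheme.pointSmallEtale η).presheafFiber (A := AddCommGrpCat.{u + 1})).obj
    (EtShriek.lowerShriekPre f F)) : {v : Lift f η | retrL f η F v p ≠ 0}.Finite := by
  obtain ⟨V, y, t, rfl⟩ := (Scheme.pointSmallEtale η).toPresheafFiber_jointly_surjective p
  obtain ⟨Z, hZ, -, hfin⟩ := goodSupp f F t
  let qq : Lift f η → (Spec (CommRingCat.of Ω) ⟶ ((EtCoh.bc f).obj V).left) := fun v =>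
    (EtSite.PushFinite.pt f v V y).left
  let S := {v : Lift f η |
    retrL f η F v ((Scheme.pointSmallEtale η).toPresheafFiber V y (EtShriek.lowerShriekPre f F) t) ≠ 0}
  have hsub : qq '' S ⊆ {q | q ≫ EtShriek.prV f V = (y.left : Spec (CommRingCat.of Ω) ⟶ V.left) ∧
      q (default : Spec (CommRingCat.of Ω)) ∈ Z} := by
    rintro - ⟨v, hv, rfl⟩
    exact ⟨pullback.lift_fst _ _ _, hZ (by_contra fun hx => hv (retrL_eq_zero_of_notMem f η F hx))⟩
  exact Set.Finite.of_finite_image ((hfin Ω y.left).subset hsub)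
    (fun v _ v' _ e => Subtype.ext ((pullback.lift_snd _ _ _).symm.trans
      ((congrArg (· ≫ pullback.snd V.hom f) e).trans (pullback.lift_snd _ _ _))))

section AlgClosed

variable {K : Type u} [Field K] [IsAlgClosed K] (θ : Spec (CommRingCat.of K) ⟶ Y)

theorem exists_point {V : Y.Etale} (t : EtShriek.shriekSubgroup f F V) (x : ((EtCoh.bc f).obj V).left)
    (hx : x ∈ EtShriek.sectSupp F ((EtCoh.bc f).obj V) t.1) (yl : Spec (CommRingCat.of K) ⟶ V.left)
    (hxy : EtShriek.prV f V x = yl default) :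
    ∃ q : Spec (CommRingCat.of K) ⟶ ((EtCoh.bc f).obj V).left, q ≫ EtShriek.prV f V = yl ∧ q default = x := by
  have hp := (Supp.mem_shriekSubgroup_iff f F t.1).1 t.2
  obtain ⟨hC, hpr⟩ := hp
  let ι := (Scheme.IdealSheafData.vanishingIdeal ⟨_, hC⟩).subschemeι
  haveI : LocallyQuasiFinite (EtShriek.prV f V) := MorphismProperty.pullback_fst _ _ inferInstance
  haveI : IsProper (ι ≫ EtShriek.prV f V) := hpr
  haveI : IsFinite (ι ≫ EtShriek.prV f V) := IsFinite.of_isProper_of_locallyQuasiFinite _
  obtain ⟨z, rfl⟩ := (Supp.range_subscheme _ hC).symm.subset hx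
  obtain ⟨w, hw1, -⟩ := Scheme.Pullback.exists_preimage_pullback (f := ι ≫ EtShriek.prV f V) (g := yl) z default
    ((Scheme.Hom.comp_apply _ _ _).trans hxy)
  obtain ⟨-, -, hbij⟩ := EtSite.PushFinite.bijective_sections (pullback.snd (ι ≫ EtShriek.prV f V) yl)
  obtain ⟨⟨s, hs⟩, hsw⟩ := hbij.2 w
  refine ⟨(s ≫ pullback.fst (ι ≫ EtShriek.prV f V) yl) ≫ ι, ?_, ?_⟩
  · exact (Category.assoc _ _ _).trans ((Category.assoc _ _ _).trans ((congrArg (s ≫ ·) pullback.condition).trans
      ((Category.assoc _ _ _).symm.trans ((congrArg (· ≫ yl) hs).trans (Category.id_comp _)))))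
  · refine (Scheme.Hom.comp_apply _ _ _).trans (congrArg ι ((Scheme.Hom.comp_apply _ _ _).trans ?_))
    exact (congrArg (pullback.fst (ι ≫ EtShriek.prV f V) yl) hsw).trans hw1

/-- A germ of a section with proper support vanishing at all lifts vanishes. -/
theorem eq_zero_of_retrL (p : ((Scheme.pointSmallEtale θ).presheafFiber (A := AddCommGrpCat.{u + 1})).obj
    (EtShriek.lowerShriekPre f F)) (h : ∀ v, retrL f θ F v p = 0) : p = 0 := by
  obtain ⟨V, y, t, rfl⟩ := (Scheme.pointSmallEtale θ).toPresheafFiber_jointly_surjective p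
  obtain ⟨Z, hZ, hcl, -⟩ := goodSupp f F t
  let C := EtShriek.sectSupp F ((EtCoh.bc f).obj V) t.1
  let O : V.left.Opens := ⟨(EtShriek.prV f V '' C)ᶜ, (hcl C (Supp.isClosed_supp F _) hZ).isOpen_compl⟩
  let yl : Spec (CommRingCat.of K) ⟶ V.left := y.left
  have hyw : yl ≫ V.hom = θ := Over.w y
  have hy : yl default ∈ O := by
    rintro ⟨x, hx, hxy⟩
    obtain ⟨q, hq, hqx⟩ := exists_point f F t x hx yl hxy
    let v : Lift f θ := ⟨q ≫ pullback.snd V.hom f, (Category.assoc _ _ _).trans
      ((congrArg (q ≫ ·) pullback.condition.symm).trans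
        ((Category.assoc _ _ _).symm.trans ((congrArg (· ≫ V.hom) hq).trans hyw)))⟩
    have hqv : (EtSite.PushFinite.pt f v V y).left = q := pullback.hom_ext
      ((pullback.lift_fst _ _ _).trans hq.symm) (pullback.lift_snd _ _ _)
    obtain ⟨W, g, w, hw, hz⟩ := ((Scheme.pointSmallEtale v.1).toPresheafFiber_eq_iff' _ _ t.1 0).1
      ((retrL_germ f θ F v V y t).symm.trans ((h v).trans (map_zero _).symm))
    refine hx W g ⟨w.left (default : Spec (CommRingCat.of K)), ?_⟩ (hz.trans (map_zero _))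
    rw [← hqx, ← hqv, ← hw]
    rfl
  haveI : Etale V.hom := V.prop
  let W : Y.Etale := Scheme.Etale.mk (O.ι ≫ V.hom)
  let g : W ⟶ V := MorphismProperty.Over.homMk O.ι rfl
  have hr : Set.range yl ⊆ Set.range O.ι := by
    rw [Scheme.Opens.range_ι]
    rintro - ⟨a, rfl⟩
    exact (Subsingleton.elim default a) ▸ hy
  let l : Spec (CommRingCat.of K) ⟶ (O : Scheme.{u}) := IsOpenImmersion.lift O.ι yl hr
  have hl : l ≫ O.ι = yl := IsOpenImmersion.lift_fac _ _ _
  let w : (Scheme.pointSmallEtale θ).fiber.obj W :=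
    Over.homMk l ((Category.assoc _ _ _).symm.trans ((congrArg (· ≫ V.hom) hl).trans hyw))
  have hw : (Scheme.pointSmallEtale θ).fiber.map g w = y := Over.OverMorphism.ext hl
  have hz : (EtShriek.lowerShriekPre f F).map g.op t = 0 := by
    refine Subtype.ext (Supp.eq_zero_of_supp F _ fun x hx => ?_)
    have h1 : ((EtCoh.bc f).map g).left x ∈ C := Supp.supp_map F _ _ hx
    have h2 : EtShriek.prV f V (((EtCoh.bc f).map g).left x) = O.ι (EtShriek.prV f W x) :=
      (Scheme.Hom.comp_apply _ _ _).symm.trans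
        ((congr($((EtCoh.isPullback_bc_map f g).w) x)).trans (Scheme.Hom.comp_apply _ _ _))
    exact (EtShriek.prV f W x).2 ⟨_, h1, h2⟩
  rw [← hw, ← GrothendieckTopology.Point.toPresheafFiber_w_apply, hz, map_zero]

variable [IsSeparated f]

/-- A finite etale-local piece of a locally quasi-finite morphism through a given geometric point. -/
theorem exists_finite_piece (v : Lift f θ) :
    ∃ (T : Y.Etale) (y : (Scheme.pointSmallEtale θ).fiber.obj T) (P : ((EtCoh.bc f).obj T).left.Opens)
      (q : Spec (CommRingCat.of K) ⟶ (P : Scheme.{u})),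
      IsFinite (P.ι ≫ EtShriek.prV f T) ∧ q ≫ P.ι = (EtSite.PushFinite.pt f v T y).left := by
  obtain ⟨T₀, g, hg, -, P₀, W₀, p₀, -, hfin, hp₀⟩ :=
    exists_etale_isCompl_of_quasiFiniteAt f (x := v.1 default) rfl (f.quasiFiniteAt _)
  haveI := hg
  let T : Y.Etale := Scheme.Etale.mk g
  let e : ((EtCoh.bc f).obj T).left ⟶ pullback f g := (pullbackSymmetry g f).hom
  haveI : IsIso e := inferInstanceAs (IsIso (pullbackSymmetry g f).hom)
  have he1 : e ≫ pullback.snd f g = EtShriek.prV f T := pullbackSymmetry_hom_comp_snd g f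
  have he2 : e ≫ pullback.fst f g = pullback.snd T.hom f := pullbackSymmetry_hom_comp_fst g f
  let P : ((EtCoh.bc f).obj T).left.Opens := e ⁻¹ᵁ P₀
  haveI := hfin
  have heq : P.ι ≫ EtShriek.prV f T = (e ∣_ P₀) ≫ P₀.ι ≫ pullback.snd f g :=
    (congrArg (P.ι ≫ ·) he1.symm).trans ((Category.assoc _ _ _).symm.trans
      ((congrArg (· ≫ pullback.snd f g) (morphismRestrict_ι e P₀).symm).trans (Category.assoc _ _ _)))
  have hPf : IsFinite (P.ι ≫ EtShriek.prV f T) := by
    rw [heq]
    exact MorphismProperty.comp_mem (W := @IsFinite) _ _ (inferInstance : IsFinite (e ∣_ P₀)) hfin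
  let π : (P : Scheme.{u}) ⟶ X := P.ι ≫ pullback.snd T.hom f
  haveI : Etale T.hom := T.prop
  have hsnd : Etale (pullback.snd T.hom f) := MorphismProperty.pullback_snd (P := @Etale) _ _ ‹Etale T.hom›
  haveI : Etale π := MorphismProperty.comp_mem (W := @Etale) _ _ (inferInstance : Etale P.ι) hsnd
  let Pe : X.Etale := Scheme.Etale.mk π
  let pU : ((EtCoh.bc f).obj T).left := (inv e) p₀.1
  have hpe : e pU = p₀.1 := (Scheme.Hom.comp_apply _ _ _).symm.trans (congr($(IsIso.inv_hom_id e) p₀.1))
  have hpU : pU ∈ P := show e pU ∈ P₀ from hpe.symm ▸ p₀.2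
  have hx : Pe.hom (⟨pU, hpU⟩ : P) = v.1 default := by
    refine (Scheme.Hom.comp_apply _ _ _).trans ?_
    show pullback.snd T.hom f pU = _
    rw [← he2]
    exact (Scheme.Hom.comp_apply _ _ _).trans ((congrArg (pullback.fst f g) hpe).trans hp₀)
  obtain ⟨z, -⟩ := EtSite.exists_fiber v.1 Pe (⟨pU, hpU⟩ : P) hx
  let q : Spec (CommRingCat.of K) ⟶ (P : Scheme.{u}) := z.left
  have hq : q ≫ π = v.1 := Over.w z
  let y : (Scheme.pointSmallEtale θ).fiber.obj T := Over.homMk (q ≫ P.ι ≫ pullback.fst T.hom f)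
    ((Category.assoc _ _ _).trans ((congrArg (q ≫ ·) ((Category.assoc _ _ _).trans
      (congrArg (P.ι ≫ ·) pullback.condition))).trans
        ((congrArg (q ≫ ·) (Category.assoc _ _ _).symm).trans ((Category.assoc _ _ _).symm.trans
          ((congrArg (· ≫ f) hq).trans v.2)))))
  exact ⟨T, y, P, q, hPf, pullback.hom_ext ((Category.assoc _ _ _).trans (pullback.lift_fst _ _ _).symm)
    ((Category.assoc _ _ _).trans (hq.trans (pullback.lift_snd _ _ _).symm))⟩

/-- A germ of a section with proper support with a prescribed value at one lift and zero at the others. -/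
theorem exists_single (v : Lift f θ) (a : (EtCoh.stalk v.1).obj F) :
    ∃ p : ((Scheme.pointSmallEtale θ).presheafFiber (A := AddCommGrpCat.{u + 1})).obj (EtShriek.lowerShriekPre f F),
      retrL f θ F v p = a ∧ ∀ w, w ≠ v → retrL f θ F w p = 0 := by
  classical
  obtain ⟨T, y, P, q, hPf, hq⟩ := exists_finite_piece f θ v
  let π : (P : Scheme.{u}) ⟶ X := P.ι ≫ pullback.snd T.hom f
  haveI : Etale T.hom := T.prop
  have hsnd : Etale (pullback.snd T.hom f) := MorphismProperty.pullback_snd (P := @Etale) _ _ ‹Etale T.hom›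
  haveI : Etale π := MorphismProperty.comp_mem (W := @Etale) _ _ (inferInstance : Etale P.ι) hsnd
  haveI := ExtZero.jCont π
  let p : (P : Scheme.{u}) ⟶ T.left := P.ι ≫ EtShriek.prV f T
  haveI : IsFinite p := hPf
  let yl : Spec (CommRingCat.of K) ⟶ T.left := y.left
  have hyw : yl ≫ T.hom = θ := Over.w y
  have hqπ : q ≫ π = v.1 := (Category.assoc _ _ _).symm.trans
    ((congrArg (· ≫ pullback.snd T.hom f) hq).trans (pullback.lift_snd _ _ _))
  have hqp : q ≫ p = yl := (Category.assoc _ _ _).symm.trans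
    ((congrArg (· ≫ EtShriek.prV f T) hq).trans (pullback.lift_fst _ _ _))
  obtain ⟨b, hb⟩ := Supp.transfer_surjective π v.1 ⟨q, hqπ⟩ F a
  let tup : ∀ ζ : {ζ : Spec (CommRingCat.of K) ⟶ (P : Scheme.{u}) // ζ ≫ p = yl},
      ToType ((Scheme.pointSmallEtale ζ.1).sheafFiber.obj ((EtShriek.restrAlong π).obj F)) := fun ζ =>
    if hζ : ζ.1 = q then (hζ ▸ b) else 0
  obtain ⟨p₁, hp₁⟩ := EtSite.PushFinite.surjective_eval p yl ((EtShriek.restrAlong π).obj F) tup
  obtain ⟨T', y', t₀, rfl⟩ := (Scheme.pointSmallEtale yl).toPresheafFiber_jointly_surjective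
    (P := (EtCoh.bc p).op ⋙ ((EtShriek.restrAlong π).obj F).obj) p₁
  let T'' : Y.Etale := (EtShriek.compEtale T.hom).obj T'
  let y'l : Spec (CommRingCat.of K) ⟶ T'.left := y'.left
  have hy'w : y'l ≫ T'.hom = yl := Over.w y'
  let y'' : (Scheme.pointSmallEtale θ).fiber.obj T'' := Over.homMk y'l
    ((Category.assoc _ _ _).symm.trans ((congrArg (· ≫ T.hom) hy'w).trans hyw))
  let Q : X.Etale := (EtShriek.compEtale π).obj ((EtCoh.bc p).obj T')
  let κl : pullback T'.hom p ⟶ pullback T''.hom f := pullback.lift (pullback.fst T'.hom p) (pullback.snd T'.hom p ≫ π)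
    (by
      refine (Category.assoc _ _ _).symm.trans ((congrArg (· ≫ T.hom) pullback.condition).trans ?_)
      exact (Category.assoc _ _ _).trans ((congrArg (pullback.snd T'.hom p ≫ ·) ((Category.assoc _ _ _).trans
        ((congrArg (P.ι ≫ ·) pullback.condition).trans (Category.assoc _ _ _).symm))).trans (Category.assoc _ _ _).symm))
  let κ : Q ⟶ (EtCoh.bc f).obj T'' := MorphismProperty.Over.homMk κl (pullback.lift_snd _ _ _)
  have hκ1 : κl ≫ pullback.fst T''.hom f = pullback.fst T'.hom p := pullback.lift_fst _ _ _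
  have hκ2 : κl ≫ pullback.snd T''.hom f = pullback.snd T'.hom p ≫ π := pullback.lift_snd _ _ _
  haveI : Mono κl := ⟨fun {R} c d e => by
    have e1 : c ≫ pullback.fst T'.hom p = d ≫ pullback.fst T'.hom p :=
      (congrArg (c ≫ ·) hκ1.symm).trans ((Category.assoc _ _ _).symm.trans
        ((congrArg (· ≫ pullback.fst T''.hom f) e).trans ((Category.assoc _ _ _).trans (congrArg (d ≫ ·) hκ1))))
    have e2 : (c ≫ pullback.snd T'.hom p) ≫ π = (d ≫ pullback.snd T'.hom p) ≫ π :=
      (Category.assoc _ _ _).trans ((congrArg (c ≫ ·) hκ2.symm).trans ((Category.assoc _ _ _).symm.trans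
        ((congrArg (· ≫ pullback.snd T''.hom f) e).trans ((Category.assoc _ _ _).trans
          ((congrArg (d ≫ ·) hκ2).trans (Category.assoc _ _ _).symm)))))
    have e3 : (c ≫ pullback.snd T'.hom p) ≫ p = (d ≫ pullback.snd T'.hom p) ≫ p :=
      (Category.assoc _ _ _).trans ((congrArg (c ≫ ·) pullback.condition.symm).trans ((Category.assoc _ _ _).symm.trans
        ((congrArg (· ≫ T'.hom) e1).trans ((Category.assoc _ _ _).trans
          ((congrArg (d ≫ ·) pullback.condition).trans (Category.assoc _ _ _).symm)))))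
    exact pullback.hom_ext e1 ((cancel_mono P.ι).1 (pullback.hom_ext
      ((Category.assoc _ _ _).trans (e3.trans (Category.assoc _ _ _).symm))
      ((Category.assoc _ _ _).trans (e2.trans (Category.assoc _ _ _).symm))))⟩
  haveI : Etale κl := EtSite.etale_left κ
  haveI : IsOpenImmersion κl := IsOpenImmersion.of_flat_of_mono _
  haveI : IsOpenImmersion κ.left := inferInstanceAs (IsOpenImmersion κl)
  haveI : IsFinite (κl ≫ pullback.fst T''.hom f) := by rw [hκ1]; exact MorphismProperty.pullback_fst (P := @IsFinite) _ _ hPf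
  haveI : IsClosedImmersion κl :=
    IsClosedImmersion.of_isPreimmersion _ (by
      haveI : IsSeparated (pullback.fst T''.hom f) := MorphismProperty.pullback_fst _ _ inferInstance
      haveI : UniversallyClosed κl := MorphismProperty.of_postcomp (W := @UniversallyClosed) (W' := @IsSeparated)
        κl (pullback.fst T''.hom f) inferInstance inferInstance
      rw [← Set.image_univ]
      exact κl.isClosedMap _ isClosed_univ)
  obtain ⟨t, ht, hts⟩ := Supp.exists_extension F κ κl.isClosedEmbedding.isClosed_range t₀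
  have htm : t ∈ EtShriek.shriekSubgroup f F T'' := by
    refine (Supp.mem_shriekSubgroup_iff f F t).2 ((Supp.hasProperSupport_iff F _ _).1 ?_)
    haveI : IsProper (κl ≫ EtShriek.prV f T'') := by
      show IsProper (κl ≫ pullback.fst T''.hom f)
      infer_instance
    haveI : IsClosedImmersion κ.left := ‹IsClosedImmersion κl›
    haveI : IsProper (κ.left ≫ EtShriek.prV f T'') := ‹IsProper (κl ≫ EtShriek.prV f T'')›
    exact Supp.hasProperSupport_of_closedImmersion F t _ κ.left hts
  refine ⟨(Scheme.pointSmallEtale θ).toPresheafFiber T'' y'' (EtShriek.lowerShriekPre f F) ⟨t, htm⟩, ?_⟩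
  have key : ∀ (w : Lift f θ) (ζ : {ζ : Spec (CommRingCat.of K) ⟶ (P : Scheme.{u}) // ζ ≫ p = yl})
      (hζ : ζ.1 ≫ π = w.1),
      retrL f θ F w ((Scheme.pointSmallEtale θ).toPresheafFiber T'' y'' (EtShriek.lowerShriekPre f F) ⟨t, htm⟩) =
        Supp.transfer π w.1 ⟨ζ.1, hζ⟩ F (tup ζ) := by
    intro w ζ hζ
    have hpt : (Scheme.pointSmallEtale w.1).fiber.map κ
        (ExtZero.fibIncl π w.1 ⟨ζ.1, hζ⟩ _ (EtSite.PushFinite.pt p ζ T' y')) = EtSite.PushFinite.pt f w T'' y'' := by
      refine Over.OverMorphism.ext (pullback.hom_ext ?_ ?_)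
      · exact (Category.assoc _ _ _).trans ((congrArg (_ ≫ ·) hκ1).trans
          ((pullback.lift_fst _ _ _).trans (pullback.lift_fst y'l w.1 _).symm))
      · exact (Category.assoc _ _ _).trans ((congrArg (_ ≫ ·) hκ2).trans ((Category.assoc _ _ _).symm.trans
          ((congrArg (· ≫ π) (pullback.lift_snd _ _ _)).trans (hζ.trans (pullback.lift_snd y'l w.1 _).symm))))
    refine (retrL_germ f θ F w T'' y'' _).trans ?_
    rw [← hpt, ← GrothendieckTopology.Point.toPresheafFiber_w_apply]
    refine Eq.trans ?_ (congrArg (Supp.transfer π w.1 ⟨ζ.1, hζ⟩ F)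
      ((EtSite.PushFinite.eval_apply p ((EtShriek.restrAlong π).obj F) ζ T' y' t₀).symm.trans (hp₁ ζ)))
    refine Eq.trans ?_ (Supp.transfer_germ π w.1 ⟨ζ.1, hζ⟩ F _ (EtSite.PushFinite.pt p ζ T' y') t₀).symm
    exact congrArg ((Scheme.pointSmallEtale w.1).toPresheafFiber _ _ F.obj) ht
  refine ⟨(key v ⟨q, hqp⟩ hqπ).trans ?_, fun w hw => ?_⟩
  · rw [show tup ⟨q, hqp⟩ = b from dif_pos rfl]
    exact hb
  · by_cases hmem : (EtSite.PushFinite.pt f w T'' y'').left (default : Spec (CommRingCat.of K)) ∈ Set.range κl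
    · let pw : Spec (CommRingCat.of K) ⟶ pullback T''.hom f := (EtSite.PushFinite.pt f w T'' y'').left
      have hr : Set.range pw ⊆ Set.range κl := by
        rintro - ⟨o, rfl⟩
        exact (Subsingleton.elim default o) ▸ hmem
      let k := IsOpenImmersion.lift κl pw hr
      have hk : k ≫ κl = pw := IsOpenImmersion.lift_fac _ _ _
      have hkπ : (k ≫ pullback.snd T'.hom p) ≫ π = w.1 := (Category.assoc _ _ _).trans
        ((congrArg (k ≫ ·) hκ2.symm).trans ((Category.assoc _ _ _).symm.trans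
          ((congrArg (· ≫ _) hk).trans (pullback.lift_snd _ _ _))))
      have hkp : (k ≫ pullback.snd T'.hom p) ≫ p = yl := (Category.assoc _ _ _).trans
        ((congrArg (k ≫ ·) pullback.condition.symm).trans ((Category.assoc _ _ _).symm.trans
          ((congrArg (· ≫ T'.hom) ((congrArg (k ≫ ·) hκ1.symm).trans ((Category.assoc _ _ _).symm.trans
            ((congrArg (· ≫ _) hk).trans (pullback.lift_fst _ _ _))))).trans hy'w)))
      refine (key w ⟨_, hkp⟩ hkπ).trans ?_
      rw [show tup ⟨_, hkp⟩ = 0 from dif_neg fun e => hw (Subtype.ext (hkπ.symm.trans ((congrArg (· ≫ π) e).trans hqπ)))]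
      exact map_zero _
    · exact retrL_eq_zero_of_notMem f θ F fun hs => hmem (hts hs)

end AlgClosed

end Groth.L27.Lqf
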