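import Groth.Agent.L27.ExtZero.ShriekComp
import Groth.Agent.S7409
import Groth.Agent.L16.ProjSpace.Basic

/-! # Decreasing families of closed subsets with proper intersection become proper -/

universe u

open CategoryTheory CategoryTheory.Limits AlgebraicGeometry Opposite TopologicalSpace

set_option linter.style.haveILetI false
set_option linter.unusedSectionVars false

namespace Groth.L27.Supp

variable {X S P : Scheme.{u}}

/-- A closed subset with closed image under an immersion into a proper scheme is proper. -/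
theorem isProperOver_of_isClosed_image (j : X ⟶ P) [IsImmersion j] (q : P ⟶ S) [IsProper q] {B : Set X}
    (hB : IsClosed B) (hjB : IsClosed (j '' B)) : ClSub.IsProperOver (j ≫ q) B := by
  let ι := (Scheme.IdealSheafData.vanishingIdeal ⟨B, hB⟩).subschemeι
  have hr : Set.range (ι ≫ j) = j '' B := by
    rw [Scheme.Hom.comp_base, TopCat.coe_comp, Set.range_comp, range_subscheme B hB]
  haveI : IsClosedImmersion (ι ≫ j) := IsClosedImmersion.of_isPreimmersion _ (hr ▸ hjB)
  refine ⟨hB, ?_⟩
  show IsProper (ι ≫ j ≫ q)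
  rw [← Category.assoc]
  infer_instance

theorem exists_properStage_proj [QuasiSeparatedSpace P] [CompactSpace P] (j : X ⟶ P) [IsImmersion j]
    [CompactSpace X] (q : P ⟶ S) [IsProper q] {C : Set X} (hC : ClSub.IsProperOver (j ≫ q) C)
    :
    ∃ K : Set X, IsCompact K ∧ Disjoint K C ∧
      ∀ B : Set X, IsClosed B → Disjoint B K → ClSub.IsProperOver (j ≫ q) B := by
  haveI : LocallyOfFiniteType j := inferInstance
  have hA : IsClosed (j '' C) := isClosed_image j (isProperOver_left j q hC)
  let R := Set.range j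
  have hb : IsClosed (closure R \ R) := by
    simpa [coborder] using (IsLocallyClosed.isOpen_coborder j.isLocallyClosed_range).isClosed_compl
  have hdisj : ∀ x ∈ closure R \ R, x ∉ j '' C := fun x hx ⟨c, _, hc⟩ => hx.2 ⟨c, hc⟩
  obtain ⟨U, hUc, hbU, hUA⟩ : ∃ U : P.Opens, IsCompact (U : Set P) ∧ closure R \ R ⊆ U ∧
      (U : Set P) ⊆ (j '' C)ᶜ := by
    have hbasis := P.isBasis_affineOpens
    let ι := {V : P.affineOpens // ((V.1 : P.Opens) : Set P) ⊆ (j '' C)ᶜ}
    obtain ⟨t, ht⟩ := (hb.isCompact).elim_finite_subcover (fun V : ι => ((V.1.1 : P.Opens) : Set P))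
      (fun V => V.1.1.2) (fun x hx => by
        obtain ⟨_, ⟨V, hV, rfl⟩, hxV, hVA⟩ := hbasis.exists_subset_of_mem_open (hdisj x hx) hA.isOpen_compl
        exact Set.mem_iUnion.2 ⟨⟨⟨V, hV⟩, hVA⟩, hxV⟩)
    refine ⟨⨆ V ∈ t, (V : ι).1.1, ?_, ?_, ?_⟩
    · simp only [Opens.coe_iSup]
      exact t.isCompact_biUnion fun V _ => V.1.2.isCompact
    · simpa only [Opens.coe_iSup] using ht
    · simp only [Opens.coe_iSup]
      exact Set.iUnion₂_subset fun V _ => V.2
  haveI : QuasiCompact j := inferInstance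
  refine ⟨j ⁻¹' U, j.isCompact_preimage hUc, Set.disjoint_left.2 fun x hxU hxC => hUA hxU ⟨x, hxC, rfl⟩,
    fun B hB hBU => isProperOver_of_isClosed_image j q hB ?_⟩
  rw [← closure_subset_iff_isClosed]
  intro x hx
  have hxU : x ∉ (U : Set P) := fun h => by
    obtain ⟨_, hyU, b, hbB, rfl⟩ := mem_closure_iff.1 hx _ U.2 h
    exact Set.disjoint_left.1 hBU hbB hyU
  obtain ⟨b, rfl⟩ : x ∈ R := by
    by_contra hn
    exact hxU (hbU ⟨closure_mono (Set.image_subset_range _ _) hx, hn⟩)
  refine ⟨b, ?_, rfl⟩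
  rw [← hB.closure_eq, j.isEmbedding.closure_eq_preimage_closure_image]
  exact hx

/-- A directed decreasing family of closed subsets whose intersection is contained in a subset proper over
the base has a member proper over the base. -/
theorem exists_properStage {O V : Scheme.{u}} (g : O ⟶ V) [IsSeparated g] [LocallyOfFiniteType g] [QuasiCompact g]
    [CompactSpace V] [QuasiSeparatedSpace V] {C : Set O} (hC : ClSub.IsProperOver g C)
    {κ : Type*} [Nonempty κ] (B : κ → Set O) (hB : ∀ k, IsClosed (B k))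
    (hdir : Directed (fun s t => s ⊇ t) B) (hcap : ∀ x ∉ C, ∃ k, x ∉ B k) :
    ∃ k, ClSub.IsProperOver g (B k) := by
  obtain ⟨n, X', π, j, hj, hjπ, hπ, hπs⟩ := Groth.Agent.S7409.result g
  haveI := hj; haveI := hπ; haveI := hπs
  let q := CohB1.ProjSpaceOver.toBase n V
  haveI : CompactSpace O := QuasiCompact.compactSpace_of_compactSpace g
  haveI : CompactSpace X' := QuasiCompact.compactSpace_of_compactSpace π
  haveI : CompactSpace (CohB1.ProjSpaceOver n V) := QuasiCompact.compactSpace_of_compactSpace q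
  haveI : QuasiSeparatedSpace (CohB1.ProjSpaceOver n V) := quasiSeparatedSpace_of_quasiSeparated q
  have hC' : ClSub.IsProperOver (j ≫ q) (π ⁻¹' C) := by
    rw [hjπ]
    obtain ⟨hCc, hCp⟩ := hC
    let ι := (Scheme.IdealSheafData.vanishingIdeal ⟨C, hCc⟩).subschemeι
    haveI : IsProper (ι ≫ g) := hCp
    have hr : π ⁻¹' C = Set.range (pullback.snd ι π) := by
      rw [Scheme.Pullback.range_snd, range_subscheme C hCc]
    haveI : IsProper (pullback.snd ι π ≫ π ≫ g) := by
      rw [← pullback.condition_assoc]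
      infer_instance
    rw [hr]
    exact isProperOver_range_of_closedImmersion _ _
  obtain ⟨K, hK, hKC, hprop⟩ := exists_properStage_proj j q hC'
  have hπK : IsCompact (π '' K) := hK.image π.continuous
  obtain ⟨k, hk⟩ := hπK.elim_directed_cover (fun k => (B k)ᶜ) (fun k => (hB k).isOpen_compl)
    (fun x hx => by
      obtain ⟨y, hy, rfl⟩ := hx
      obtain ⟨k, hk⟩ := hcap (π y) fun h => Set.disjoint_left.1 hKC hy h
      exact Set.mem_iUnion.2 ⟨k, hk⟩)
    (fun a b => by
      obtain ⟨c, hac, hbc⟩ := hdir a b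
      exact ⟨c, Set.compl_subset_compl.2 hac, Set.compl_subset_compl.2 hbc⟩)
  refine ⟨k, ?_⟩
  have h := hprop (π ⁻¹' B k) ((hB k).preimage π.continuous)
    (Set.disjoint_left.2 fun x hx hxK => hk ⟨x, hxK, rfl⟩ hx)
  rw [hjπ] at h
  have h' := ((isProperOver_comp_iff π g).1 h).2
  rwa [Set.image_preimage_eq _ π.surjective] at h'

end Groth.L27.Supp
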