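import Groth.Agent.L27.ExtZero.ShriekFiltered
import Groth.Agent.L27.ExtZero.ShriekExact
import Mathlib.CategoryTheory.Sites.Limits
import Mathlib.CategoryTheory.Sites.LocallyBijective

/-! # Direct image with proper support preserves filtered colimits -/

universe u

open CategoryTheory CategoryTheory.Limits AlgebraicGeometry Opposite TopologicalSpace

set_option backward.isDefEq.respectTransparency.types false
set_option linter.style.haveILetI false
set_option linter.unusedSectionVars false
set_option linter.unusedVariables false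

namespace Groth.L27.Supp

variable {X Y : Scheme.{u}} (f : X ⟶ Y) [IsSeparated f] [LocallyOfFiniteType f]
variable {J : Type u} [SmallCategory J] [IsFiltered J]

theorem exists_affine_nbhd (V : Y.Etale) (x : V.left) :
    ∃ (A : Y.Etale) (g : A ⟶ V) (a : A.left), g.left.base a = x ∧ Colim.Qcqs A := by
  obtain ⟨_, ⟨O, hO, rfl⟩, hx, -⟩ :=
    V.left.isBasis_affineOpens.exists_subset_of_mem_open (Set.mem_univ x) isOpen_univ
  haveI : Etale V.hom := V.prop
  haveI : IsAffine (Scheme.Opens.toScheme O) := hO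
  exact ⟨Scheme.Etale.mk (Scheme.Opens.ι O ≫ V.hom), MorphismProperty.Over.homMk (Scheme.Opens.ι O) rfl,
    ⟨x, hx⟩, rfl, inferInstanceAs (CompactSpace (Scheme.Opens.toScheme O)),
    inferInstanceAs (QuasiSeparatedSpace (Scheme.Opens.toScheme O))⟩

theorem isIso_desc {D : J ⥤ EtCoh.Ab X} {c : Cocone D} (hc : IsColimit c)
    {e : Cocone (D ⋙ shriekFunctor f)} (he : IsColimit e)
    (θ : e.pt ⟶ (shriekFunctor f).obj c.pt) (hθ : ∀ j, e.ι.app j ≫ θ = (shriekFunctor f).map (c.ι.app j)) :
    IsIso θ := by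
  have hθ' : ∀ (j : J) (V : Y.Etale) (s : EtShriek.shriekSubgroup f (D.obj j) V),
      (θ.hom.app (op V) ((e.ι.app j).hom.app (op V) s)).1 =
        (c.ι.app j).hom.app (op ((EtCoh.bc f).obj V)) s.1 := fun j V s =>
    congr(($(hθ j).hom.app (op V) s).1)
  refine Sheaf.isLocallyBijective_iff_isIso θ |>.1 ⟨?_, ?_⟩
  · refine ⟨fun {V} a b hab => ?_⟩
    refine (EtSite.mem_topology_iff _).2 fun x => ?_
    obtain ⟨A, g, p, hp, hA⟩ := exists_affine_nbhd V.unop x
    haveI : CompactSpace A.left := hA.1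
    haveI : QuasiSeparatedSpace A.left := hA.2
    refine ⟨A, g, p, ?_, hp⟩
    show e.pt.obj.map g.op a = e.pt.obj.map g.op b
    rw [← sub_eq_zero, ← map_sub]
    obtain ⟨j, s, hs⟩ := Colim.exists_rep Colim.good he hA (e.pt.obj.map g.op (a - b))
    have h0 : (c.ι.app j).hom.app (op ((EtCoh.bc f).obj A)) s.1 = 0 := by
      rw [← hθ' j A s, hs, NatTrans.naturality_apply θ.hom g.op, map_sub, hab, sub_self, map_zero]
      rfl
    obtain ⟨k, φ, hk⟩ := exists_stage_eq_zero f hc j s.1 ((mem_shriekSubgroup_iff f _ _).1 s.2) h0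
    rw [← hs, ← Colim.ι_map (D := D ⋙ shriekFunctor f) φ s,
      show ((D ⋙ shriekFunctor f).map φ).hom.app (op A) s = 0 from Subtype.ext hk, map_zero]
  · refine ⟨fun {V} t => (EtSite.mem_topology_iff _).2 fun x => ?_⟩
    obtain ⟨A, g, p, hp, hA⟩ := exists_affine_nbhd V x
    haveI : CompactSpace A.left := hA.1
    haveI : QuasiSeparatedSpace A.left := hA.2
    refine ⟨A, g, p, ?_, hp⟩
    let t' : EtShriek.shriekSubgroup f c.pt A := ((shriekFunctor f).obj c.pt).obj.map g.op t
    obtain ⟨k, s, hs, hst⟩ := exists_stage_rep f hc t'.1 ((mem_shriekSubgroup_iff f _ _).1 t'.2)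
    exact ⟨(e.ι.app k).hom.app (op A) ⟨s, (mem_shriekSubgroup_iff f _ _).2 hs⟩, Subtype.ext ((hθ' k A _).trans hst)⟩

theorem preservesFilteredColimits_shriekFunctor :
    PreservesFilteredColimitsOfSize.{u, u} (shriekFunctor f) := by
  refine ⟨fun J _ _ => ⟨fun {D} => ⟨fun {c} hc => ?_⟩⟩⟩
  let e := colimit.cocone (D ⋙ shriekFunctor f)
  let θ : e.pt ⟶ (shriekFunctor f).obj c.pt := colimit.desc _ ((shriekFunctor f).mapCocone c)
  haveI := isIso_desc f hc (colimit.isColimit _) θ (fun j => colimit.ι_desc _ j)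
  exact ⟨IsColimit.ofPointIso (colimit.isColimit _) (i := inferInstanceAs (IsIso θ))⟩

theorem preservesFilteredColimits_lowerShriek :
    PreservesFilteredColimitsOfSize.{u, u} (EtShriek.lowerShriek f) := by
  haveI := preservesFilteredColimits_shriekFunctor f
  exact ⟨fun J _ _ => preservesColimitsOfShape_of_natIso (shriekFunctorIso f)⟩

end Groth.L27.Supp
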